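import Mathlib.RingTheory.Extension.Cotangent.Basic
import Mathlib.RingTheory.Extension.Generators
import Mathlib.RingTheory.IsTensorProduct
import Mathlib.RingTheory.TensorProduct.MvPolynomial
import Mathlib.RingTheory.Flat.Stability
import Mathlib.RingTheory.Flat.Basic
import Mathlib.RingTheory.RingHom.Flat
import Mathlib.RingTheory.Flat.Equalizer

/-!
# Cotangent spaces of polynomial presentations under cocartesian squares

For a cocartesian square `R → S`, `R → R'`, `S → S'` and presentations `G`, `G'` on the same variables: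
the kernel of `G'` is generated by that of `G`, hence `S' ⊗ (I/I²) → I'/I'²` is surjective, and bijective
if `R → R'` is flat; `S' ⊗ (S ⊗ Ω) → S' ⊗ Ω'` is bijective with no hypothesis on the square.
-/

universe u

open TensorProduct Algebra

namespace Groth.Agent.H8Props.NLCx

section Extension

variable {R S R' S' : Type u} [CommRing R] [CommRing S] [CommRing R'] [CommRing S']
  [Algebra R S] [Algebra R' S'] [Algebra R R'] [Algebra S S'] [Algebra R S']
  [IsScalarTower R R' S']
  {P : Algebra.Extension.{u} R S} {P' : Algebra.Extension.{u} R' S'}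

theorem liftBaseChange_cotangentMap_surjective (f : P.Hom P')
    (hker : P'.ker ≤ P.ker.map f.toRingHom) :
    Function.Surjective (LinearMap.liftBaseChange S' (Extension.Cotangent.map f)) := by
  intro y
  obtain ⟨⟨y, hy⟩, rfl⟩ := Extension.Cotangent.mk_surjective y
  have h0 : ∀ z ∈ P.ker.map f.toRingHom, ∃ hz : z ∈ P'.ker,
      Extension.Cotangent.mk ⟨z, hz⟩ ∈
        LinearMap.range (LinearMap.liftBaseChange S' (Extension.Cotangent.map f)) := by
    intro z hz
    refine Submodule.span_induction (p := fun z _ => ∃ hz : z ∈ P'.ker,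
      Extension.Cotangent.mk ⟨z, hz⟩ ∈
        LinearMap.range (LinearMap.liftBaseChange S' (Extension.Cotangent.map f))) ?_ ?_ ?_ ?_ hz
    · rintro _ ⟨x, hx, rfl⟩
      refine ⟨?_, (1 : S') ⊗ₜ Extension.Cotangent.mk ⟨x, hx⟩, ?_⟩
      · have hx0 : algebraMap P.Ring S x = 0 := hx
        simp [hx0]
      · simp
    · exact ⟨Submodule.zero_mem _, ⟨0, by
        rw [show (⟨0, Submodule.zero_mem _⟩ : P'.ker) = 0 from rfl, map_zero, map_zero]⟩⟩
    · rintro a b _ _ ⟨ha, ha'⟩ ⟨hb, hb'⟩
      refine ⟨add_mem ha hb, ?_⟩
      rw [show (⟨a + b, add_mem ha hb⟩ : P'.ker) = ⟨a, ha⟩ + ⟨b, hb⟩ from rfl, map_add]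
      exact add_mem ha' hb'
    · rintro a b _ ⟨hb, hb'⟩
      refine ⟨Ideal.mul_mem_left _ a hb, ?_⟩
      rw [show (⟨a • b, Ideal.mul_mem_left _ a hb⟩ : P'.ker) = a • ⟨b, hb⟩ from rfl, map_smul,
        ← algebraMap_smul S' a]
      exact Submodule.smul_mem _ _ hb'
  obtain ⟨_, h⟩ := h0 y (hker hy)
  exact h

variable (P) in
/-- `(p', i) ↦ [p'] ⊗ [i]`. -/
noncomputable def leftInv (f : P.Hom P') :
    letI := f.toRingHom.toAlgebra
    P'.Ring ⊗[P.Ring] P.ker →+ S' ⊗[S] P.Cotangent :=
  let := f.toRingHom.toAlgebra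
  TensorProduct.liftAddHom
    (AddMonoidHom.mk' (fun p' => AddMonoidHom.mk'
        (fun i => (algebraMap P'.Ring S' p') ⊗ₜ[S] Extension.Cotangent.mk i)
        (fun a b => by simp only [map_add, tmul_add]))
      (fun a b => by
        ext i
        simp only [AddMonoidHom.mk'_apply, AddMonoidHom.add_apply, map_add, add_tmul]))
    (fun p p' i => by
      simp only [AddMonoidHom.mk'_apply]
      rw [Algebra.smul_def, RingHom.algebraMap_toAlgebra, map_mul, f.algebraMap_toRingHom,
        ← Algebra.smul_def, smul_tmul]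
      congr 1
      rw [algebraMap_smul, map_smul])

theorem liftBaseChange_cotangentMap_injective (f : P.Hom P')
    (hinj : letI := f.toRingHom.toAlgebra; Function.Injective (P.ker.subtype.lTensor P'.Ring))
    (hker : P'.ker ≤ P.ker.map f.toRingHom) :
    Function.Injective (LinearMap.liftBaseChange S' (Extension.Cotangent.map f)) := by
  let := f.toRingHom.toAlgebra
  -- `P' ⊗ I → P'`
  let μ : P'.Ring ⊗[P.Ring] P.ker →ₗ[P'.Ring] P'.Ring :=
    LinearMap.liftBaseChange P'.Ring ((Algebra.linearMap P.Ring P'.Ring).comp P.ker.subtype)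
  have hμ : ∀ (a : P'.Ring) (i : P.ker), μ (a ⊗ₜ i) = a * f.toRingHom i := fun a i => by
    simp [μ, RingHom.algebraMap_toAlgebra]
  have hμinj : Function.Injective μ := by
    have : (μ.restrictScalars P.Ring) =
        (TensorProduct.rid P.Ring P'.Ring).toLinearMap ∘ₗ P.ker.subtype.lTensor P'.Ring := by
      apply TensorProduct.ext'
      intro a i
      simp [hμ, Algebra.smul_def, RingHom.algebraMap_toAlgebra, mul_comm]
    have h2 : Function.Injective (μ.restrictScalars P.Ring) := by
      rw [this, LinearMap.coe_comp]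
      exact (LinearEquiv.injective _).comp
        hinj
    exact h2
  have hrange : ∀ z ∈ P'.ker, z ∈ LinearMap.range μ := by
    intro z hz
    refine Submodule.span_induction (p := fun z _ => z ∈ LinearMap.range μ) ?_ ?_ ?_ ?_
      (hker hz)
    · rintro _ ⟨x, hx, rfl⟩
      exact ⟨1 ⊗ₜ ⟨x, hx⟩, by rw [hμ, one_mul]⟩
    · exact zero_mem _
    · exact fun a b _ _ ha hb => add_mem ha hb
    · exact fun a b _ hb => Submodule.smul_mem _ a hb
  choose pre hpre using hrange
  have hlin : ∀ (p' : P'.Ring) (t : P'.Ring ⊗[P.Ring] P.ker),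
      leftInv P f (p' • t) = algebraMap P'.Ring S' p' • leftInv P f t := by
    intro p' t
    induction t using TensorProduct.induction_on with
    | zero => simp
    | add a b ha hb => simp [smul_add, ha, hb]
    | tmul a i =>
      simp only [leftInv, TensorProduct.smul_tmul', liftAddHom_tmul, AddMonoidHom.mk'_apply,
        smul_eq_mul, map_mul]
  let ψ : P'.ker →+ S' ⊗[S] P.Cotangent := AddMonoidHom.mk'
    (fun z => leftInv P f (pre z.1 z.2))
    (fun a b => by
      rw [← map_add]
      congr 1
      apply hμinj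
      rw [map_add, hpre, hpre, hpre]
      rfl)
  have hψ : ∀ (t : P'.Ring ⊗[P.Ring] P.ker) (z : P'.ker), μ t = z.1 → ψ z = leftInv P f t :=
    fun t z h => by
      show leftInv P f _ = _
      rw [hμinj (h.trans (hpre z.1 z.2).symm)]
  have hψsq : ∀ z : P'.ker, z.1 ∈ P'.ker ^ 2 → ψ z = 0 := by
    rintro ⟨z, hz0⟩ hz
    simp only [pow_two] at hz
    refine Submodule.smul_induction_on' (p := fun x (hx : x ∈ P'.ker * P'.ker) =>
      ψ ⟨x, Ideal.mul_le_left hx⟩ = 0) (hx := hz) ?_ ?_
    · intro a ha b hb
      rw [hψ (a • pre b hb) _ (by rw [map_smul, hpre]), hlin]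
      rw [show algebraMap P'.Ring S' a = 0 from ha, zero_smul]
    · intro a ha b hb ha' hb'
      rw [show (⟨a + b, Ideal.mul_le_left (add_mem ha hb)⟩ : P'.ker) =
        ⟨a, Ideal.mul_le_left ha⟩ + ⟨b, Ideal.mul_le_left hb⟩ from rfl, map_add, ha', hb', add_zero]
  have key : ∀ x : S' ⊗[S] P.Cotangent, ∃ z : P'.ker, ψ z = x ∧
      Extension.Cotangent.mk z = LinearMap.liftBaseChange S' (Extension.Cotangent.map f) x := by
    intro x
    induction x using TensorProduct.induction_on with
    | zero => exact ⟨0, map_zero _, by simp⟩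
    | add a b ha hb =>
      obtain ⟨za, ha, ha'⟩ := ha
      obtain ⟨zb, hb, hb'⟩ := hb
      exact ⟨za + zb, by rw [map_add, ha, hb], by rw [map_add, ha', hb', map_add]⟩
    | tmul s' y =>
      obtain ⟨y, rfl⟩ := Extension.Cotangent.mk_surjective y
      obtain ⟨p', rfl⟩ := P'.algebraMap_surjective s'
      have hy : f.toRingHom y.1 ∈ P'.ker := by
        have hy0 : algebraMap P.Ring S y.1 = 0 := y.2
        simp [hy0]
      refine ⟨p' • ⟨f.toRingHom y.1, hy⟩, ?_, ?_⟩
      · rw [hψ (p' ⊗ₜ y) _ (by rw [hμ]; rfl)]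
        simp [leftInv]
      · rw [map_smul, LinearMap.liftBaseChange_tmul, Extension.Cotangent.map_mk, algebraMap_smul]
        rfl
  rw [injective_iff_map_eq_zero]
  intro x hx
  obtain ⟨z, rfl, hz⟩ := key x
  exact hψsq z ((Extension.Cotangent.mk_eq_zero_iff _).mp (hz.trans hx))

end Extension

section Generators

variable {R S R' S' : Type u} [CommRing R] [CommRing S] [CommRing R'] [CommRing S']
  [Algebra R S] [Algebra R' S'] [Algebra R R'] [Algebra S S'] [Algebra R S']
  [IsScalarTower R R' S'] [IsScalarTower R S S']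
  {ι : Type u} {G : Algebra.Generators R S ι} {G' : Algebra.Generators R' S' ι}

theorem liftBaseChange_cotangentSpaceMap_bijective (f : G.Hom G')
    (hf : ∀ i, f.val i = MvPolynomial.X i) :
    Function.Bijective
      (LinearMap.liftBaseChange S' (Extension.CotangentSpace.map f.toExtensionHom)) := by
  have key : ∀ i, LinearMap.liftBaseChange S' (Extension.CotangentSpace.map f.toExtensionHom)
      (G.cotangentSpaceBasis.baseChange S' i) = G'.cotangentSpaceBasis i := by
    intro i
    rw [Module.Basis.baseChange_apply, LinearMap.liftBaseChange_tmul, one_smul,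
      Algebra.Generators.cotangentSpaceBasis_apply]
    erw [Extension.CotangentSpace.map_tmul]
    rw [map_one, Algebra.Generators.cotangentSpaceBasis_apply]
    congr 2
    exact (Algebra.Generators.Hom.toAlgHom_X f i).trans (hf i)
  have he : LinearMap.liftBaseChange S' (Extension.CotangentSpace.map f.toExtensionHom) =
      ((G.cotangentSpaceBasis.baseChange S').equiv G'.cotangentSpaceBasis (Equiv.refl ι)).toLinearMap :=
    (G.cotangentSpaceBasis.baseChange S').ext fun i =>
      (key i).trans (Module.Basis.equiv_apply _ i _ (Equiv.refl ι)).symm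
  rw [he]
  exact LinearEquiv.bijective _

theorem toAlgHom_eq_map (f : G.Hom G') (hf : ∀ i, f.val i = MvPolynomial.X i) :
    f.toExtensionHom.toRingHom = MvPolynomial.map (algebraMap R R') := by
  refine MvPolynomial.ringHom_ext (fun r => ?_) (fun i => ?_)
  · refine (AlgHom.commutes f.toAlgHom r).trans ?_
    exact (IsScalarTower.algebraMap_apply R R' (MvPolynomial ι R') r).trans
      (MvPolynomial.map_C (algebraMap R R') r).symm
  · refine ((Algebra.Generators.Hom.toAlgHom_X f i).trans (hf i)).trans ?_
    exact (MvPolynomial.map_X _ i).symm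

theorem ker_le_map_of_isPushout [Algebra.IsPushout R R' S S']
    (h : ∀ i, G'.val i = algebraMap S S' (G.val i)) :
    G'.ker ≤ G.ker.map (MvPolynomial.map (algebraMap R R')) := by
  intro p hp
  let J : Ideal (MvPolynomial ι R') := G.ker.map (MvPolynomial.map (algebraMap R R'))
  let Q := MvPolynomial ι R' ⧸ J
  let φ : MvPolynomial ι R →ₐ[R] Q :=
    MvPolynomial.aeval fun i => Ideal.Quotient.mk J (MvPolynomial.X i)
  have hφ : ∀ x : MvPolynomial ι R,
      φ x = Ideal.Quotient.mk J (MvPolynomial.map (algebraMap R R') x) := by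
    intro x
    induction x using MvPolynomial.induction_on with
    | C r =>
      rw [MvPolynomial.map_C]
      simp only [φ, MvPolynomial.aeval_C]
      rfl
    | add a b ha hb => simp [ha, hb]
    | mul_X a i ha =>
      rw [map_mul, ha, map_mul, map_mul, MvPolynomial.map_X]
      simp [φ]
  have hker : ∀ x ∈ RingHom.ker (MvPolynomial.aeval G.val : _ →ₐ[R] S), φ x = 0 := by
    intro x hx
    rw [hφ, Ideal.Quotient.eq_zero_iff_mem]
    exact Ideal.mem_map_of_mem _ (by rw [Algebra.Generators.ker_eq_ker_aeval_val]; exact hx)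
  have hsurj : Function.Surjective (MvPolynomial.aeval G.val : _ →ₐ[R] S) := fun s =>
    ⟨G.σ s, G.aeval_val_σ s⟩
  let g : S →ₐ[R] Q := AlgHom.liftOfSurjective _ hsurj φ hker
  let ψ : S' →ₐ[R] Q := Algebra.pushoutDesc S' (IsScalarTower.toAlgHom R R' Q) g
    (fun _ _ => mul_comm _ _)
  have hψ : ∀ q : MvPolynomial ι R',
      ψ (MvPolynomial.aeval G'.val q) = Ideal.Quotient.mk J q := by
    intro q
    induction q using MvPolynomial.induction_on with
    | C r =>
      rw [MvPolynomial.aeval_C, Algebra.pushoutDesc_left]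
      rfl
    | add a b ha hb => simp [ha, hb]
    | mul_X a i ha =>
      rw [map_mul, map_mul, map_mul, ha, MvPolynomial.aeval_X, h, Algebra.pushoutDesc_right]
      congr 1
      have : g (MvPolynomial.aeval G.val (MvPolynomial.X i)) = φ (MvPolynomial.X i) :=
        AlgHom.liftOfSurjective_apply _ hsurj φ hker _
      simpa [φ] using this
  have hp0 : MvPolynomial.aeval G'.val p = 0 := Algebra.Generators.aeval_val_eq_zero hp
  have := hψ p
  rw [hp0, map_zero] at this
  exact Ideal.Quotient.eq_zero_iff_mem.mp this.symm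

theorem flat_map (ι : Type u) [Module.Flat R R'] :
    (MvPolynomial.map (σ := ι) (algebraMap R R')).Flat := by
  let : Algebra (MvPolynomial ι R) (MvPolynomial ι R') := MvPolynomial.algebraMvPolynomial
  have : Algebra.IsPushout R (MvPolynomial ι R) R' (MvPolynomial ι R') :=
    Algebra.IsPushout.symm inferInstance
  have hF : Module.Flat (MvPolynomial ι R) (MvPolynomial ι R') :=
    Module.Flat.of_linearEquiv
      (Algebra.IsPushout.equiv R (MvPolynomial ι R) R' (MvPolynomial ι R')).toLinearEquiv.symm
  exact hF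

theorem liftBaseChange_cotangentMap_surjective_of_isPushout [Algebra.IsPushout R R' S S']
    (h : ∀ i, G'.val i = algebraMap S S' (G.val i))
    (f : G.Hom G') (hf : ∀ i, f.val i = MvPolynomial.X i) :
    Function.Surjective
      (LinearMap.liftBaseChange S' (Extension.Cotangent.map f.toExtensionHom)) := by
  apply liftBaseChange_cotangentMap_surjective
  rw [toAlgHom_eq_map f hf]
  exact ker_le_map_of_isPushout h

theorem liftBaseChange_cotangentMap_bijective_of_flat [Algebra.IsPushout R R' S S']
    [Module.Flat R R'] (h : ∀ i, G'.val i = algebraMap S S' (G.val i))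
    (f : G.Hom G') (hf : ∀ i, f.val i = MvPolynomial.X i) :
    Function.Bijective
      (LinearMap.liftBaseChange S' (Extension.Cotangent.map f.toExtensionHom)) := by
  refine ⟨liftBaseChange_cotangentMap_injective _ ?_ ?_,
    liftBaseChange_cotangentMap_surjective_of_isPushout h f hf⟩
  · let := f.toExtensionHom.toRingHom.toAlgebra
    have : Module.Flat G.toExtension.Ring G'.toExtension.Ring := by
      have hF : f.toExtensionHom.toRingHom.Flat := by
        rw [toAlgHom_eq_map f hf]
        exact flat_map ι
      exact hF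
    exact Module.Flat.lTensor_preserves_injective_linearMap _ (Submodule.injective_subtype _)
  · rw [toAlgHom_eq_map f hf]
    exact ker_le_map_of_isPushout h

theorem injective_lTensor_ker_of_flat [Module.Flat R S] (I : Ideal (MvPolynomial ι R))
    (hI : I = RingHom.ker (MvPolynomial.aeval G.val : _ →ₐ[R] S)) :
    letI : Algebra (MvPolynomial ι R) (MvPolynomial ι R') := MvPolynomial.algebraMvPolynomial
    Function.Injective (LinearMap.lTensor (MvPolynomial ι R') I.subtype) := by
  let : Algebra (MvPolynomial ι R) (MvPolynomial ι R') := MvPolynomial.algebraMvPolynomial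
  let c₁ := Algebra.IsPushout.cancelBaseChange R R' (MvPolynomial ι R) (MvPolynomial ι R') I
  let c₂ := Algebra.IsPushout.cancelBaseChange R R' (MvPolynomial ι R) (MvPolynomial ι R')
    (MvPolynomial ι R)
  have hcomm : ∀ z, (I.subtype).lTensor (MvPolynomial ι R') (c₁.symm z) =
      c₂.symm ((I.subtype.restrictScalars R).lTensor R' z) := by
    intro z
    induction z using TensorProduct.induction_on with
    | zero => simp only [map_zero]
    | add a b ha hb => simp only [map_add, ha, hb]
    | tmul a b => simp [c₁, c₂]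
  have h0 : Function.Injective ((I.subtype.restrictScalars R).lTensor R') := by
    refine LinearMap.lTensor_injective_of_exact_of_flat
      (MvPolynomial.aeval G.val : _ →ₐ[R] S).toLinearMap (fun s => ⟨G.σ s, G.aeval_val_σ s⟩)
      (I.subtype.restrictScalars R) Subtype.val_injective (fun x => ?_) R'
    constructor
    · exact fun hx => ⟨⟨x, hI.ge hx⟩, rfl⟩
    · rintro ⟨y, rfl⟩
      exact hI.le y.2
  intro x y hxy
  obtain ⟨x, rfl⟩ := c₁.symm.surjective x
  obtain ⟨y, rfl⟩ := c₁.symm.surjective y
  rw [hcomm, hcomm] at hxy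
  rw [h0 (c₂.symm.injective hxy)]

theorem liftBaseChange_cotangentMap_bijective_of_flat_target [Algebra.IsPushout R R' S S']
    [Module.Flat R S] (h : ∀ i, G'.val i = algebraMap S S' (G.val i))
    (f : G.Hom G') (hf : ∀ i, f.val i = MvPolynomial.X i) :
    Function.Bijective
      (LinearMap.liftBaseChange S' (Extension.Cotangent.map f.toExtensionHom)) := by
  refine ⟨liftBaseChange_cotangentMap_injective _ ?_ ?_,
    liftBaseChange_cotangentMap_surjective_of_isPushout h f hf⟩
  · rw [toAlgHom_eq_map f hf]
    exact injective_lTensor_ker_of_flat (G := G) G.toExtension.ker G.ker_eq_ker_aeval_val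
  · rw [toAlgHom_eq_map f hf]
    exact ker_le_map_of_isPushout h

end Generators

end Groth.Agent.H8Props.NLCx
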