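import Groth.Agent.H8Props.NLCx.SelfBC
import Groth.Agent.H4DR.TorAmp.Modules
import Groth.Agent.H26Tor.BaseChange

/-!
# The naive cotangent complex of a flat algebra and derived base change
-/

set_option autoImplicit false
set_option linter.style.haveILetI false
set_option backward.isDefEq.respectTransparency false

universe u

open CategoryTheory CategoryTheory.Limits TensorProduct HomologicalComplex
open Groth.Agent.H16Derived

attribute [local instance] HasDerivedCategory.standard

namespace Groth.Agent.H8Props.NLCx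

section

variable {R : Type u} [CommRing R]

/-- A two-term complex of tor amplitude `[-1, 0]` with flat term in degree `0` has flat terms. -/
theorem flat_negOne_of_ta (K : DRing.Cx R) (hz : ∀ i : ℤ, i ≠ -1 → i ≠ 0 → IsZero (K.X i))
    [Module.Flat R (K.X 0)] (h : DRing.HasTorAmplitudeIn R (-1) 0 (DRing.toD K)) :
    Module.Flat R (K.X (-1)) := by
  let p : ℤ := 0
  have hT := DerivedCategory.triangleOfSES_distinguished (KFlat.Brutal.shortExact K p)
  have hg : DRing.HasTorAmplitudeIn R (-1 + 1) (0 + 1)
      (DRing.toD (KFlat.Brutal.geq K p)) := by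
    refine H4DR.TorAmp.ta_mono (a := 0) (b := 0) (by omega) (by omega) ⟨_, fun i hi => ?_, fun i => ?_, ⟨Iso.refl _⟩⟩
    · rcases hi with hi | hi
      · exact KFlat.Brutal.isZero_geq K _ (by omega)
      · have := KFlat.Brutal.isIso_ι_f K p (show p ≤ i by omega)
        exact (hz i (by omega) (by omega)).of_iso (asIso ((KFlat.Brutal.ι K p).f i))
    · by_cases hi : i = 0
      · subst hi
        have := KFlat.Brutal.isIso_ι_f K p (le_refl p)
        exact Module.Flat.of_linearEquiv (asIso ((KFlat.Brutal.ι K p).f 0)).toLinearEquiv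
      · haveI : Subsingleton ((KFlat.Brutal.geq K p).X i) := by
          apply ModuleCat.subsingleton_of_isZero
          by_cases hpi : p ≤ i
          · have := KFlat.Brutal.isIso_ι_f K p hpi
            exact (hz i (by omega) hi).of_iso (asIso ((KFlat.Brutal.ι K p).f i))
          · exact KFlat.Brutal.isZero_geq K _ (by omega)
        infer_instance
  have hC : DRing.HasTorAmplitudeIn R (-1) 0 (DRing.toD (cokernel (KFlat.Brutal.ι K p))) :=
    H4DR.TorAmp.ta_obj₃ _ hT hg h
  have hzC : ∀ i : ℤ, i ≠ -1 → IsZero ((cokernel (KFlat.Brutal.ι K p)).X i) := fun i hi => by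
    by_cases hpi : p ≤ i
    · exact KFlat.Brutal.isZero_cokernel K _ hpi
    · have := KFlat.Brutal.isIso_cokernel_π K p (show i < p by omega)
      exact (hz i hi (by omega)).of_iso (asIso ((cokernel.π (KFlat.Brutal.ι K p)).f i)).symm
  haveI : (cokernel (KFlat.Brutal.ι K p)).IsStrictlyGE (-1) :=
    (CochainComplex.isStrictlyGE_iff _ _).2 fun q hq => hzC q (by omega)
  haveI : (cokernel (KFlat.Brutal.ι K p)).IsStrictlyLE (-1) :=
    (CochainComplex.isStrictlyLE_iff _ _).2 fun q hq => hzC q (by omega)
  obtain ⟨Y, ⟨e⟩⟩ := CochainComplex.exists_iso_single (cokernel (KFlat.Brutal.ι K p)) (-1)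
  have := KFlat.Brutal.isIso_cokernel_π K p (show (-1 : ℤ) < p by omega)
  let eY : K.X (-1) ≅ Y := asIso ((cokernel.π (KFlat.Brutal.ι K p)).f (-1)) ≪≫
    HomologicalComplex.Hom.isoApp e (-1) ≪≫
    HomologicalComplex.singleObjXSelf (ComplexShape.up ℤ) (-1) Y
  have h1 := H4DR.TorAmp.ta_of_iso (H4DR.PCoh.singleIso Y (-1))
    (H4DR.TorAmp.ta_of_iso (DerivedCategory.Q.mapIso e) hC)
  have h2 : DRing.HasTorAmplitudeIn R 0 1 (Dual.inD R Y) :=
    H4DR.TorAmp.ta_of_shift (-(-1)) (by omega) (by omega) h1
  have h3 : DRing.HasTorAmplitudeIn R 0 0 (Dual.inD R Y) :=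
    H4DR.TorAmp.ta_top h2 fun i hi => H4DR.PCoh.subsingleton_HD_inD _ i (by omega)
  haveI := H4DR.TorAmp.flat_of_ta Y h3
  exact Module.Flat.of_linearEquiv eY.toLinearEquiv

end

section

variable {R S : Type u} [CommRing R] [CommRing S] [Algebra R S]

theorem isZero_cx (P : Algebra.Extension.{u} R S) (i : ℤ) (hi : i ≠ -1) (hi' : i ≠ 0) :
    IsZero ((_root_.NLCx.cx P).X i) :=
  isZero_double_X _ _ i hi hi'

variable {ι : Type u} (G : Algebra.Generators R S ι)

theorem termwiseFlat_cx (h : DRing.HasTorAmplitudeIn S (-1) 0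
    (DRing.toD (_root_.NLCx.cx G.toExtension))) :
    DRing.TermwiseFlat (_root_.NLCx.cx G.toExtension) := by
  haveI : Module.Flat S G.toExtension.CotangentSpace :=
    haveI := Module.Free.of_basis G.cotangentSpaceBasis
    inferInstance
  haveI h0 : Module.Flat S ((_root_.NLCx.cx G.toExtension).X 0) :=
    Module.Flat.of_linearEquiv
      (doubleXIso₁ (ModuleCat.ofHom G.toExtension.cotangentComplex)
        (show (ComplexShape.up ℤ).Rel (-1) 0 by simp) (by decide)).toLinearEquiv
  intro i
  by_cases hi : i = 0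
  · subst hi; exact h0
  by_cases hi' : i = -1
  · subst hi'; exact flat_negOne_of_ta _ (isZero_cx _) h
  · haveI := ModuleCat.subsingleton_of_isZero (isZero_cx G.toExtension i hi' hi)
    infer_instance

variable (S' : Type u) [CommRing S'] [Algebra S S']

/-- `NL ⊗_S S'` is the termwise extension of scalars. -/
theorem nonempty_extendCx_iso_bcCx (P : Algebra.Extension.{u} R S) :
    Nonempty (((ModuleCat.extendScalars.{u, u, u} (algebraMap S S')).mapHomologicalComplex
      (ComplexShape.up ℤ)).obj (_root_.NLCx.cx P) ≅ _root_.NLCx.bcCx P S') := by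
  let F := ModuleCat.extendScalars.{u, u, u} (algebraMap S S')
  let a₀ : ModuleCat.of S' (S' ⊗[S] P.Cotangent) ≅ F.obj (ModuleCat.of S P.Cotangent) :=
    (H26Tor.extendEquiv (ModuleCat.of S P.Cotangent)).toModuleIso
  let a₁ : ModuleCat.of S' (S' ⊗[S] P.CotangentSpace) ≅ F.obj (ModuleCat.of S P.CotangentSpace) :=
    (H26Tor.extendEquiv (ModuleCat.of S P.CotangentSpace)).toModuleIso
  have hrel : (ComplexShape.up ℤ).Rel (-1) 0 := by simp
  let e₀ := doubleXIso₀ (ModuleCat.ofHom P.cotangentComplex) hrel
  let e₁ := doubleXIso₁ (ModuleCat.ofHom P.cotangentComplex) hrel (by decide)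
  have hd : a₀.hom ≫ F.map (ModuleCat.ofHom P.cotangentComplex) =
      ModuleCat.ofHom (P.cotangentComplex.baseChange S') ≫ a₁.hom := by
    refine ModuleCat.hom_ext (LinearMap.ext fun z => ?_)
    induction z using TensorProduct.induction_on with
    | zero => simp only [map_zero]
    | add a b ha hb => simp only [map_add, ha, hb]
    | tmul s x => rfl
  let φ : _root_.NLCx.bcCx P S' ⟶ (F.mapHomologicalComplex (ComplexShape.up ℤ)).obj
      (double (ModuleCat.ofHom P.cotangentComplex) hrel) :=
    mkHomFromDouble hrel (by decide) (a₀.hom ≫ F.map e₀.inv) (a₁.hom ≫ F.map e₁.inv)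
      (by
        show (a₀.hom ≫ F.map e₀.inv) ≫
          F.map ((double (ModuleCat.ofHom P.cotangentComplex) hrel).d (-1) 0) = _
        rw [double_d _ _ (by decide), Category.assoc, ← F.map_comp, Iso.inv_hom_id_assoc,
          F.map_comp, reassoc_of% hd])
      (fun k hk => (F.map_isZero (isZero_cx P k (by simp at hk; omega) (by simp at hk; omega))).eq_of_tgt _ _)
  have : ∀ i, IsIso (φ.f i) := by
    intro i
    by_cases hi : i = -1
    · subst hi
      rw [show φ.f (-1) = _ from mkHomFromDouble_f₀ _ _ _ _ _ _]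
      infer_instance
    · by_cases hi' : i = 0
      · subst hi'
        rw [show φ.f 0 = _ from mkHomFromDouble_f₁ _ _ _ _ _ _]
        infer_instance
      · exact ⟨0, (isZero_double_X _ _ i hi hi').eq_of_src _ _,
          (F.map_isZero (isZero_cx P i hi hi')).eq_of_src _ _⟩
  haveI := HomologicalComplex.Hom.isIso_of_components φ
  exact ⟨(asIso φ).symm⟩

end

end Groth.Agent.H8Props.NLCx
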