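import Groth.Agent.H8Props.NLCx.SelfBC
import Groth.Agent.H29Slice.KoszulReg
import Groth.Agent.H29Slice.H1Quasi
import Groth.Agent.H06QR.Criterion
import Groth.Agent.H06QR.Local
import Groth.Prelude.Def_LCI2

/-!
# Conormal modules of presentations of local complete intersections
-/

set_option autoImplicit false
set_option linter.style.haveILetI false

universe u

open TensorProduct Algebra

namespace Groth.Agent.H8Props.NLCx

section Ideal

variable {A : Type u} [CommRing A]

theorem exists_charts_of_isKoszulRegularIdeal (I : Ideal A) (h : LCI.IsKoszulRegularIdeal I) :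
    ∀ (P : Ideal A) [P.IsPrime], I ≤ P →
      ∃ g, g ∉ P ∧ ∃ (r : ℕ) (f : Fin r → A), H06QR.IsChart I g f := by
  intro P hP hIP
  obtain ⟨g, hg, l, hl, hIl⟩ := h ⟨P, hP⟩ hIP
  refine ⟨g, hg, (H06QR.exists_chart_iff_away g).mp ⟨l.length, fun i => l.get i, ?_, ?_⟩⟩
  · exact H29Slice.isQuasiRegular_of_isH1Regular (H29Slice.isH1Regular_of_isKoszulRegular hl)
  · rw [hIl]
    congr 1
    ext x
    simp [List.mem_iff_get]

end Ideal

section Retract

variable {R S : Type u} [CommRing R] [CommRing S] [Algebra R S] {P P' : Algebra.Extension.{u} R S}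

/-- The conormal module of a presentation is a retract of `P'.Cotangent × P.CotangentSpace`. -/
theorem exists_retraction (f : P.Hom P') (g : P'.Hom P) :
    ∃ (i : P.Cotangent →ₗ[S] P'.Cotangent × P.CotangentSpace)
      (r : P'.Cotangent × P.CotangentSpace →ₗ[S] P.Cotangent), r ∘ₗ i = LinearMap.id := by
  refine ⟨(Extension.Cotangent.map f).prod P.cotangentComplex,
    (Extension.Cotangent.map g).coprod (-((g.comp f).sub (Extension.Hom.id P))), ?_⟩
  ext x
  have h := LinearMap.congr_fun
    (Extension.Cotangent.map_sub_map (g.comp f) (Extension.Hom.id P)) x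
  rw [LinearMap.sub_apply, Extension.Cotangent.map_id, Extension.Cotangent.map_comp,
    LinearMap.comp_apply, LinearMap.comp_apply, LinearMap.id_apply] at h
  simp only [LinearMap.comp_apply, LinearMap.prod_apply, Function.prod_apply,
    LinearMap.coprod_apply, LinearMap.neg_apply, ← sub_eq_add_neg, LinearMap.id_apply]
  rw [← h]
  simp

theorem projective_cotangent (f : P.Hom P') (g : P'.Hom P) [Module.Projective S P'.Cotangent]
    [Module.Projective S P.CotangentSpace] : Module.Projective S P.Cotangent := by
  obtain ⟨i, r, h⟩ := exists_retraction f g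
  exact Module.Projective.of_split i r h

theorem finite_cotangent (f : P.Hom P') (g : P'.Hom P) [Module.Finite S P'.Cotangent]
    [Module.Finite S P.CotangentSpace] : Module.Finite S P.Cotangent := by
  obtain ⟨i, r, h⟩ := exists_retraction f g
  exact Module.Finite.of_surjective r fun x => ⟨i x, LinearMap.congr_fun h x⟩

end Retract

section LCI

variable (R S : Type u) [CommRing R] [CommRing S] [Algebra R S]

/-- A local complete intersection has a presentation by finitely many variables with finite projective
conormal module. -/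
theorem exists_presentation_of_isLCI (h : LCI.IsLCI R S) :
    ∃ (n : ℕ) (G : Algebra.Generators R S (ULift.{u} (Fin n))),
      Module.Finite S G.toExtension.Cotangent ∧ Module.Projective S G.toExtension.Cotangent := by
  obtain ⟨-, n, φ, hφ, hI⟩ := h
  let v : Fin n → S := fun i => φ (MvPolynomial.X i)
  have hv : MvPolynomial.aeval v = φ := MvPolynomial.algHom_ext fun i => by simp [v]
  let P₀ : Algebra.Generators R S (Fin n) :=
    Algebra.Generators.ofSurjective v (by rw [hv]; exact hφ)
  have hker : P₀.toExtension.ker = RingHom.ker φ.toRingHom := by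
    rw [← Algebra.Generators.ker, P₀.ker_eq_ker_aeval_val]
    exact congrArg (fun ψ : MvPolynomial (Fin n) R →ₐ[R] S => RingHom.ker ψ.toRingHom) hv
  have hch := exists_charts_of_isKoszulRegularIdeal P₀.toExtension.ker
    (by rw [hker]; exact hI)
  haveI := H06QR.projective_of_charts hch
  have hfg : P₀.toExtension.ker.FG := H06QR.fg_of_charts hch
  haveI : Module.Finite S P₀.toExtension.Cotangent := Extension.Cotangent.finite hfg
  let eS : (P₀.toExtension.Ring ⧸ P₀.toExtension.ker) ≃+* S :=
    RingHom.quotientKerEquivOfSurjective P₀.toExtension.algebraMap_surjective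
  haveI := RingHomInvPair.of_ringEquiv eS
  haveI := RingHomInvPair.symm (↑eS : (P₀.toExtension.Ring ⧸ P₀.toExtension.ker) →+* S)
    (eS.symm : S →+* _)
  let e : P₀.toExtension.ker.Cotangent ≃ₛₗ[(eS : (P₀.toExtension.Ring ⧸ P₀.toExtension.ker) →+* S)] P₀.toExtension.Cotangent :=
    { toFun := Extension.Cotangent.of
      invFun := Extension.Cotangent.val
      left_inv := fun _ => rfl
      right_inv := fun _ => rfl
      map_add' := fun _ _ => rfl
      map_smul' := fun c x => by
        obtain ⟨p, rfl⟩ := Ideal.Quotient.mk_surjective (I := P₀.toExtension.ker) c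
        refine Extension.Cotangent.ext ?_
        rw [show (eS : (P₀.toExtension.Ring ⧸ P₀.toExtension.ker) →+* S) (Ideal.Quotient.mk _ p) = algebraMap P₀.toExtension.Ring S p from
          RingHom.quotientKerEquivOfSurjective_apply_mk P₀.toExtension.algebraMap_surjective p,
          algebraMap_smul, Extension.Cotangent.val_smul', Extension.Cotangent.val_of,
          Extension.Cotangent.val_of]
        exact algebraMap_smul (P₀.toExtension.Ring ⧸ P₀.toExtension.ker) p x }
  haveI : Module.Projective S P₀.toExtension.Cotangent := Module.Projective.of_equiv e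
  let G : Algebra.Generators R S (ULift.{u} (Fin n)) :=
    Algebra.Generators.ofSurjective (fun i => v i.down) fun s => by
      obtain ⟨p, hp⟩ := hφ s
      refine ⟨MvPolynomial.rename ULift.up p, ?_⟩
      rw [MvPolynomial.aeval_rename, ← hp, ← hv]
      rfl
  haveI := Module.Free.of_basis G.cotangentSpaceBasis
  haveI := Module.Finite.of_basis G.cotangentSpaceBasis
  exact ⟨n, G,
    finite_cotangent (G.defaultHom P₀).toExtensionHom (P₀.defaultHom G).toExtensionHom,
    projective_cotangent (G.defaultHom P₀).toExtensionHom (P₀.defaultHom G).toExtensionHom⟩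

theorem projective_cotangent_of_isLCI (h : LCI.IsLCI R S) {ι : Type u}
    (P : Algebra.Generators R S ι) : Module.Projective S P.toExtension.Cotangent := by
  obtain ⟨n, G, -, hG⟩ := exists_presentation_of_isLCI R S h
  haveI := Module.Free.of_basis P.cotangentSpaceBasis
  exact projective_cotangent (P.defaultHom G).toExtensionHom (G.defaultHom P).toExtensionHom

end LCI

section Kernel

variable {R S R' S' : Type u} [CommRing R] [CommRing S] [CommRing R'] [CommRing S']
  [Algebra R S] [Algebra R' S'] [Algebra R R'] [Algebra S S'] [Algebra R S']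
  [IsScalarTower R R' S'] [IsScalarTower R S S']

omit [Algebra R S'] [IsScalarTower R S S'] in
theorem baseChange_map_restrict {P P' : Algebra.Extension.{u} R S} (a : P.Hom P') :
    ∀ x ∈ _root_.NLCx.bcH1 P S',
      (Extension.Cotangent.map a).baseChange S' x ∈ _root_.NLCx.bcH1 P' S' := by
  intro x hx
  have hx' : P.cotangentComplex.baseChange S' x = 0 := hx
  show P'.cotangentComplex.baseChange S' _ = 0
  have key : P'.cotangentComplex.baseChange S' ∘ₗ (Extension.Cotangent.map a).baseChange S' =
      (Extension.CotangentSpace.map a).baseChange S' ∘ₗ P.cotangentComplex.baseChange S' := by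
    ext y
    simp [Extension.CotangentSpace.map_cotangentComplex]
  have := LinearMap.congr_fun key x
  simp only [LinearMap.comp_apply, hx', map_zero] at this
  exact this

/-- Functoriality of `H^{-1}(NL ⊗ S')` in the presentation. -/
noncomputable def bcH1Trans {P P' : Algebra.Extension.{u} R S} (a : P.Hom P') :
    _root_.NLCx.bcH1 P S' →ₗ[S'] _root_.NLCx.bcH1 P' S' :=
  ((Extension.Cotangent.map a).baseChange S').restrict (baseChange_map_restrict a)

omit [Algebra R S'] [IsScalarTower R S S'] in
theorem bcH1Trans_comp_self {P P' : Algebra.Extension.{u} R S} (a : P.Hom P') (b : P'.Hom P)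
    (x : _root_.NLCx.bcH1 P S') : bcH1Trans b (bcH1Trans a x) = x := by
  apply Subtype.ext
  show (Extension.Cotangent.map b).baseChange S' ((Extension.Cotangent.map a).baseChange S' x.1) = x.1
  have key : (Extension.Cotangent.map b).baseChange S' ∘ₗ (Extension.Cotangent.map a).baseChange S' =
      LinearMap.id + ((b.comp a).sub (Extension.Hom.id P)).baseChange S' ∘ₗ
        P.cotangentComplex.baseChange S' := by
    ext y
    have h := eq_add_of_sub_eq (LinearMap.congr_fun
      (Extension.Cotangent.map_sub_map (b.comp a) (Extension.Hom.id P)) y)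
    rw [Extension.Cotangent.map_id, Extension.Cotangent.map_comp, LinearMap.comp_apply,
      LinearMap.id_apply] at h
    simp only [LinearMap.restrictScalars_apply] at h
    simp [h, tmul_add, add_comm]
  have := LinearMap.congr_fun key x.1
  have hx' : P.cotangentComplex.baseChange S' x.1 = 0 := x.2
  simpa [hx'] using this

omit [IsScalarTower R S S'] in
theorem bcH1Map_trans {P P' : Algebra.Extension.{u} R S} {Q : Algebra.Extension.{u} R' S'}
    (d : P'.Hom Q) (a : P.Hom P') (x : _root_.NLCx.bcH1 P S') :
    _root_.NLCx.bcH1Map d (bcH1Trans a x) = _root_.NLCx.bcH1Map (d.comp a) x := by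
  apply Subtype.ext
  show LinearMap.liftBaseChange S' (Extension.Cotangent.map d)
      ((Extension.Cotangent.map a).baseChange S' x.1) =
    LinearMap.liftBaseChange S' (Extension.Cotangent.map (d.comp a)) x.1
  rw [Extension.Cotangent.map_comp]
  generalize x.1 = y
  induction y using TensorProduct.induction_on with
  | zero => simp
  | tmul s z => simp
  | add p q hp hq => simp only [map_add, hp, hq]

theorem finite_projective_ker [Algebra.IsPushout R R' S S'] (hS : LCI.IsLCI R S)
    (hS' : LCI.IsLCI R' S')
    (D : (Algebra.Generators.self R S).toExtension.Hom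
      (Algebra.Generators.self R' S').toExtension) :
    Module.Finite S' (LinearMap.ker (_root_.NLCx.bcH1Map D)) ∧
      Module.Projective S' (LinearMap.ker (_root_.NLCx.bcH1Map D)) := by
  obtain ⟨n, G, hfin, hproj⟩ := exists_presentation_of_isLCI R S hS
  have hgen : Function.Surjective
      (MvPolynomial.aeval (R := R') fun i => algebraMap S S' (G.val i)) := by
    intro x
    refine (‹Algebra.IsPushout R R' S S'›).1.inductionOn x _ ⟨0, map_zero _⟩ ?_ ?_ ?_
    · intro s
      refine ⟨MvPolynomial.map (algebraMap R R') (G.σ s), ?_⟩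
      rw [MvPolynomial.aeval_map_algebraMap]
      show MvPolynomial.aeval (fun i => algebraMap S S' (G.val i)) (G.σ s) = algebraMap S S' s
      conv_rhs => rw [← G.aeval_val_σ s]
      exact (MvPolynomial.aeval_algebraMap_apply S' G.val (G.σ s))
    · rintro c _ ⟨p, rfl⟩
      exact ⟨c • p, map_smul _ c p⟩
    · rintro _ _ ⟨p, rfl⟩ ⟨q, rfl⟩
      exact ⟨p + q, map_add _ p q⟩
  let G' : Algebra.Generators R' S' (ULift.{u} (Fin n)) :=
    Algebra.Generators.ofSurjective _ hgen
  let f := (_root_.NLCx.sameVarsHom G G' (fun _ => rfl)).toExtensionHom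
  haveI := projective_cotangent_of_isLCI R' S' hS' G'
  let ν := LinearMap.liftBaseChange S' (Extension.Cotangent.map f)
  have hν : Function.Surjective ν :=
    liftBaseChange_cotangentMap_surjective_of_isPushout (fun _ => rfl) _ (fun _ => rfl)
  obtain ⟨s, hs⟩ := Module.projective_lifting_property ν LinearMap.id hν
  let r : S' ⊗[S] G.toExtension.Cotangent →ₗ[S'] LinearMap.ker ν :=
    (LinearMap.id - s ∘ₗ ν).codRestrict _ fun x => by
      have := LinearMap.congr_fun hs (ν x)
      simp only [LinearMap.comp_apply, LinearMap.id_apply] at this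
      simp [this]
  have hr : r ∘ₗ (LinearMap.ker ν).subtype = LinearMap.id := by
    ext x
    simp [r, LinearMap.mem_ker.1 x.2]
  haveI : Module.Finite S' (LinearMap.ker ν) :=
    Module.Finite.of_surjective r fun x => ⟨x.1, LinearMap.congr_fun hr x⟩
  haveI : Module.Projective S' (LinearMap.ker ν) := Module.Projective.of_split _ r hr
  -- the kernel of the lift is the kernel on `H^{-1}`
  have hmem : ∀ x : S' ⊗[S] G.toExtension.Cotangent, ν x = 0 →
      x ∈ _root_.NLCx.bcH1 G.toExtension S' := by
    intro x hx
    show G.toExtension.cotangentComplex.baseChange S' x = 0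
    apply (liftBaseChange_cotangentSpaceMap_bijective
      (_root_.NLCx.sameVarsHom G G' (fun _ => rfl)) (fun _ => rfl)).1
    rw [map_zero]
    have key : LinearMap.liftBaseChange S' (Extension.CotangentSpace.map f) ∘ₗ
        G.toExtension.cotangentComplex.baseChange S' =
        G'.toExtension.cotangentComplex ∘ₗ ν := by
      ext z
      simpa [ν] using Extension.CotangentSpace.map_cotangentComplex f z
    have := LinearMap.congr_fun key x
    simp only [LinearMap.comp_apply, hx, map_zero] at this
    exact this
  -- transport to the presentations on all elements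
  let a := (G.defaultHom (Algebra.Generators.self R S)).toExtensionHom
  let b := ((Algebra.Generators.self R S).defaultHom G).toExtensionHom
  let g := (G'.defaultHom (Algebra.Generators.self R' S')).toExtensionHom
  let g' := ((Algebra.Generators.self R' S').defaultHom G').toExtensionHom
  have hD : ∀ x, _root_.NLCx.bcH1Map D (bcH1Trans a x) =
      Extension.H1Cotangent.map g (_root_.NLCx.bcH1Map f x) := fun x => by
    rw [bcH1Map_trans, bcH1Map_eq (D.comp a) (g.comp f), bcH1Map_comp]
    rfl
  let α : _root_.NLCx.bcH1 G.toExtension S' ≃ₗ[S'] _root_.NLCx.bcH1 _ S' :=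
    { bcH1Trans a with
      invFun := bcH1Trans b
      left_inv := bcH1Trans_comp_self a b
      right_inv := bcH1Trans_comp_self b a }
  have hginj : Function.Injective (Extension.H1Cotangent.map g) :=
    (Extension.H1Cotangent.equiv g g').injective
  have hk : ∀ x, ν x.1 = 0 ↔ _root_.NLCx.bcH1Map D (α x) = 0 := fun x => by
    rw [show α x = bcH1Trans a x from rfl, hD, map_eq_zero_iff _ hginj]
    exact ⟨fun h => Subtype.ext h, fun h => congrArg Subtype.val h⟩
  let φ : LinearMap.ker ν →ₗ[S'] LinearMap.ker (_root_.NLCx.bcH1Map D) :=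
    { toFun := fun x => ⟨α ⟨x.1, hmem x.1 x.2⟩, (hk ⟨x.1, hmem x.1 x.2⟩).1 x.2⟩
      map_add' := fun x y => Subtype.ext (map_add α ⟨x.1, hmem x.1 x.2⟩ ⟨y.1, hmem y.1 y.2⟩)
      map_smul' := fun c x => Subtype.ext (map_smul α c ⟨x.1, hmem x.1 x.2⟩) }
  have hφ : Function.Bijective φ := by
    constructor
    · intro x y hxy
      exact Subtype.ext (congrArg Subtype.val (α.injective (congrArg Subtype.val hxy)) : _)
    · rintro ⟨y, hy⟩
      obtain ⟨x, rfl⟩ := α.surjective y
      exact ⟨⟨x.1, (hk x).2 hy⟩, rfl⟩
  let e := LinearEquiv.ofBijective φ hφ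
  exact ⟨Module.Finite.equiv e, Module.Projective.of_equiv' e⟩

end Kernel

end Groth.Agent.H8Props.NLCx
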