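import Groth.Agent.H8Props.NLCx.EtaleLift
import Groth.Agent.H9Hens.BranchSum
import Groth.Agent.H9Hens.LocalHens
import Groth.Agent.H9Hens.StrictHens
import Groth.Agent.S13598
import Groth.Agent.S0506
import Groth.Agent.S0509
import Groth.Agent.S0537
import Groth.Agent.S0539

/-!
# Henselizations lift flatly along square zero thickenings
-/

set_option autoImplicit false

universe u

open IsLocalRing

namespace Groth.Agent.H8Props.NLCx

theorem isLocalHom_ringEquiv {R S : Type u} [CommRing R] [CommRing S] (e : R ≃+* S) :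
    IsLocalHom e.toRingHom := ⟨fun x hx => by simpa using hx.map e.symm⟩

section Equiv

variable {R R' S : Type u} [CommRing R] [IsLocalRing R] [CommRing R'] [IsLocalRing R'] [CommRing S]
  [IsLocalRing S] [Algebra R S] [IsLocalHom (algebraMap R S)] [Algebra R' S]
  [IsLocalHom (algebraMap R' S)] (e : R' ≃+* R)
  (he : algebraMap R' S = (algebraMap R S).comp e.toRingHom)

include he in
theorem isHenselization_of_equiv [Hensel.IsHenselization R S] :
    Hensel.IsHenselization R' S := by
  refine ⟨Hensel.IsHenselization.henselian (R := R), fun T _ _ f _ => ?_⟩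
  have := isLocalHom_ringEquiv e.symm
  obtain ⟨g, hg, hu⟩ := Hensel.IsHenselization.universal (R := R) (S := S) T
    (f.comp e.symm.toRingHom) inferInstance
  refine ⟨g, RingHom.ext fun x => ?_, fun g' hg' => hu g' (RingHom.ext fun x => ?_)⟩
  · rw [he]
    simpa using RingHom.congr_fun hg (e x)
  · rw [he] at hg'
    simpa using RingHom.congr_fun hg' (e.symm x)

include he in
theorem isStrictHenselization_of_equiv [Hensel.IsStrictHenselization R S] :
    Hensel.IsStrictHenselization R' S := by
  have hsc := Hensel.IsStrictHenselization.isSepClosure (R := R) (S := S)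
  refine ⟨Hensel.IsStrictHenselization.henselian (R := R), ⟨hsc.1, ?_⟩, fun T _ _ f _ τ hτ => ?_⟩
  · have := hsc.2
    refine Algebra.IsSeparable.of_equiv_equiv (ResidueField.mapEquiv e.symm) (RingEquiv.refl _)
      (RingHom.ext fun y => ?_)
    obtain ⟨a, rfl⟩ := residue_surjective y
    show residue S (algebraMap R' S (e.symm a)) = residue S (algebraMap R S a)
    rw [he]
    simp
  · have := isLocalHom_ringEquiv e.symm
    have hτ' : τ.comp (ResidueField.map (algebraMap R S)) =
        ResidueField.map (f.comp e.symm.toRingHom) := RingHom.ext fun y => by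
      obtain ⟨a, rfl⟩ := residue_surjective y
      have h1 := RingHom.congr_fun hτ (residue R' (e.symm a))
      simp only [RingHom.comp_apply] at h1
      show τ (residue S (algebraMap R S a)) = residue T (f (e.symm a))
      refine Eq.trans (congrArg τ ?_) h1
      show residue S (algebraMap R S a) = residue S (algebraMap R' S (e.symm a))
      rw [he]
      simp
    obtain ⟨g, ⟨hg, hgτ⟩, hu⟩ := Hensel.IsStrictHenselization.universal (R := R) (S := S) T
      (f.comp e.symm.toRingHom) τ hτ'
    refine ⟨g, ⟨RingHom.ext fun x => ?_, hgτ⟩, fun g' hg' => hu g' ⟨RingHom.ext fun x => ?_, hg'.2⟩⟩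
    · rw [he]
      simpa using RingHom.congr_fun hg (e x)
    · have := RingHom.congr_fun hg'.1 (e.symm x)
      rw [he] at this
      simpa using this

end Equiv

variable {B Bh : Type u} [CommRing B] [IsLocalRing B] [CommRing Bh] [IsLocalRing Bh] [Algebra B Bh]
  [IsLocalHom (algebraMap B Bh)]

theorem isLocalRing_of_sqZero {E : Type u} [CommRing E] (π : E →+* B) (hπ : Function.Surjective π)
    (hker : RingHom.ker π ^ 2 = ⊥) : IsLocalRing E := by
  have : Nontrivial E := π.domain_nontrivial
  have hu (x : E) (hx : IsUnit (π x)) : IsUnit x := by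
    obtain ⟨y, hy⟩ := hπ ↑(hx.unit⁻¹)
    have h1 : x * y - 1 ∈ RingHom.ker π := by
      rw [RingHom.mem_ker, map_sub, map_mul, hy, map_one, IsUnit.mul_val_inv, sub_self]
    have h2 : (x * y - 1) ^ 2 = 0 := by
      rw [← Ideal.mem_bot, ← hker]
      exact Ideal.pow_mem_pow h1 2
    refine IsUnit.of_mul_eq_one (y * (2 - x * y)) ?_
    linear_combination -h2
  refine IsLocalRing.of_nonunits_add fun a b ha hb => ?_
  intro hab
  rcases IsLocalRing.isUnit_or_isUnit_of_isUnit_add (map_add π a b ▸ hab.map π) with h | h
  exacts [ha (hu a h), hb (hu b h)]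

omit [IsLocalRing B] in
/-- The common part of the two lifting theorems. -/
theorem exists_lift_of_algEquiv {E E' T : Type u} [CommRing E] [CommRing E'] [CommRing T]
    [Algebra E E'] [Algebra B T] (π : E →+* B) (hker : RingHom.ker π ^ 2 = ⊥) [Module.Flat E E']
    (σ : E' →+* T) (hσ : Function.Surjective σ)
    (hk : RingHom.ker σ = (RingHom.ker π).map (algebraMap E E'))
    (hc : σ.comp (algebraMap E E') = (algebraMap B T).comp π) :
    ∃ (E' : Type u) (_ : CommRing E') (_ : Algebra E E') (π' : E' →+* T),
      Function.Surjective π' ∧ RingHom.ker π' ^ 2 = ⊥ ∧ Module.Flat E E' ∧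
        π'.comp (algebraMap E E') = (algebraMap B T).comp π :=
  ⟨E', _, _, σ, hσ, by rw [hk, ← Ideal.map_pow, hker, Ideal.map_bot], inferInstance, hc⟩

theorem hasFlatLifts_henselization [Hensel.IsHenselization B Bh] : HasFlatLifts B Bh := by
  intro E _ π hπ hker
  have := isLocalRing_of_sqZero π hπ hker
  let I := RingHom.ker π
  let e : E ⧸ I ≃+* B := RingHom.quotientKerEquivOfSurjective hπ
  have hI : I ≠ ⊤ := RingHom.ker_ne_top π
  have : IsLocalRing (E ⧸ I) := H9Hens.isLocalRing_quotient hI
  obtain ⟨E', _, _, _, _, _⟩ := Groth.Agent.S0506.result E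
  have : Module.FaithfullyFlat E E' := Groth.Agent.S0509.result E E'
  have : IsLocalRing (E' ⧸ I.map (algebraMap E E')) := H9Hens.isLocalRing_quotient
    (ne_top_of_le_ne_top (maximalIdeal.isMaximal E').ne_top (H9Hens.map_le_maximalIdeal I hI))
  have := H9Hens.isLocalHom_quotient (S := E') I
  have := Groth.Agent.S13598.result (S := E') I (le_maximalIdeal hI)
  let := ((algebraMap B Bh).comp e.toRingHom).toAlgebra
  have := isLocalHom_ringEquiv e
  have : IsLocalHom (algebraMap (E ⧸ I) Bh) :=
    RingHom.isLocalHom_comp (algebraMap B Bh) e.toRingHom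
  have := isHenselization_of_equiv (S := Bh) e rfl
  obtain ⟨a⟩ := H9Hens.henselization_algEquiv (R := E ⧸ I) (E' ⧸ I.map (algebraMap E E')) Bh
  exact exists_lift_of_algEquiv π hker (a.toAlgHom.toRingHom.comp (Ideal.Quotient.mk _))
    (a.surjective.comp Ideal.Quotient.mk_surjective)
    ((RingHom.ker_comp_of_injective _ a.injective).trans Ideal.mk_ker)
    (RingHom.ext fun x => a.commutes (Ideal.Quotient.mk I x))

theorem hasFlatLifts_strictHenselization [Hensel.IsStrictHenselization B Bh] :
    HasFlatLifts B Bh := by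
  intro E _ π hπ hker
  have := isLocalRing_of_sqZero π hπ hker
  let I := RingHom.ker π
  let e : E ⧸ I ≃+* B := RingHom.quotientKerEquivOfSurjective hπ
  have hI : I ≠ ⊤ := RingHom.ker_ne_top π
  have : IsLocalRing (E ⧸ I) := H9Hens.isLocalRing_quotient hI
  obtain ⟨E', _, _, _, _, _⟩ := Groth.Agent.S0537.result E
  have : Module.FaithfullyFlat E E' := Groth.Agent.S0539.result E E'
  have : IsLocalRing (E' ⧸ I.map (algebraMap E E')) := H9Hens.isLocalRing_quotient
    (ne_top_of_le_ne_top (maximalIdeal.isMaximal E').ne_top (H9Hens.map_le_maximalIdeal I hI))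
  have := H9Hens.isLocalHom_quotient (S := E') I
  have := H9Hens.isStrictHenselization_quotient (S := E') I
  let := ((algebraMap B Bh).comp e.toRingHom).toAlgebra
  have := isLocalHom_ringEquiv e
  have : IsLocalHom (algebraMap (E ⧸ I) Bh) :=
    RingHom.isLocalHom_comp (algebraMap B Bh) e.toRingHom
  have := isStrictHenselization_of_equiv (S := Bh) e rfl
  obtain ⟨a⟩ := H9Hens.strictHenselization_algEquiv (R := E ⧸ I) (E' ⧸ I.map (algebraMap E E')) Bh
  exact exists_lift_of_algEquiv π hker (a.toAlgHom.toRingHom.comp (Ideal.Quotient.mk _))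
    (a.surjective.comp Ideal.Quotient.mk_surjective)
    ((RingHom.ker_comp_of_injective _ a.injective).trans Ideal.mk_ker)
    (RingHom.ext fun x => a.commutes (Ideal.Quotient.mk I x))

end Groth.Agent.H8Props.NLCx
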