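import Groth.Prelude.Def_SheafNL
import Mathlib.Algebra.Homology.Homotopy

/-!
# Naive cotangent complexes: isomorphism criteria, functoriality and homotopies

`NLCx.map` and `NLCx.bcMap` are isomorphisms as soon as their two components are bijective, are compatible
with composition and, up to homotopy, independent of the morphism of extensions.
-/

universe u

open CategoryTheory CategoryTheory.Limits TensorProduct HomologicalComplex

attribute [local instance] HasDerivedCategory.standard

namespace Groth.Agent.H8Props.NLCx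

open Algebra

section Double

variable {C : Type*} [Category C] [Preadditive C] [HasZeroObject C]
  {X₀ X₁ Y₀ Y₁ : C} {d : X₀ ⟶ X₁} {e : Y₀ ⟶ Y₁}

/-- The components of a map of two-term complexes. -/
def HasComps (h : (ComplexShape.up ℤ).Rel (-1) 0) (φ : double d h ⟶ double e h)
    (a : X₀ ⟶ Y₀) (b : X₁ ⟶ Y₁) : Prop :=
  φ.f (-1) = (doubleXIso₀ d h).hom ≫ a ≫ (doubleXIso₀ e h).inv ∧
    φ.f 0 = (doubleXIso₁ d h (by decide)).hom ≫ b ≫ (doubleXIso₁ e h (by decide)).inv

theorem HasComps.id (h : (ComplexShape.up ℤ).Rel (-1) 0) :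
    HasComps h (𝟙 (double d h)) (𝟙 X₀) (𝟙 X₁) := by
  constructor <;> simp

theorem HasComps.comp {Z₀ Z₁ : C} {k : Z₀ ⟶ Z₁} {h : (ComplexShape.up ℤ).Rel (-1) 0}
    {φ : double d h ⟶ double e h} {ψ : double e h ⟶ double k h} {a b a' b'}
    (hφ : HasComps h φ a b) (hψ : HasComps h ψ a' b') :
    HasComps h (φ ≫ ψ) (a ≫ a') (b ≫ b') := by
  constructor <;> simp [hφ.1, hφ.2, hψ.1, hψ.2]

theorem HasComps.hom_eq {h : (ComplexShape.up ℤ).Rel (-1) 0}
    {φ ψ : double d h ⟶ double e h} {a b a' b'}
    (hφ : HasComps h φ a b) (hψ : HasComps h ψ a' b') (h₀ : a = a') (h₁ : b = b') : φ = ψ := by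
  apply to_double_hom_ext
  · rw [hφ.1, hψ.1, h₀]
  · rw [hφ.2, hψ.2, h₁]

/-- A homotopy between maps of two-term complexes in degrees `-1, 0`. -/
noncomputable def doubleHomotopy {h : (ComplexShape.up ℤ).Rel (-1) 0}
    {φ ψ : double d h ⟶ double e h} {a b a' b'}
    (hφ : HasComps h φ a b) (hψ : HasComps h ψ a' b') (s : X₁ ⟶ Y₀)
    (h₀ : a = d ≫ s + a') (h₁ : b = s ≫ e + b') :
    Homotopy φ ψ where
  hom i j :=
    if hij : i = 0 ∧ j = -1 then
      eqToHom (by rw [hij.1]) ≫ (doubleXIso₁ d h (by decide)).hom ≫ s ≫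
        (doubleXIso₀ e h).inv ≫ eqToHom (by rw [hij.2])
    else 0
  zero i j hij := dif_neg fun hc => hij (by simp [hc.1, hc.2])
  comm i := by
    by_cases hi : i = -1
    · subst hi
      rw [dNext_eq _ (show (ComplexShape.up ℤ).Rel (-1) 0 by simp),
        prevD_eq _ (show (ComplexShape.up ℤ).Rel (-2) (-1) by simp)]
      rw [dif_pos (by simp), dif_neg (by simp), zero_comp, add_zero,
        double_d _ _ (by decide), hφ.1, hψ.1, h₀]
      simp
    · by_cases hi' : i = 0
      · subst hi'
        rw [dNext_eq _ (show (ComplexShape.up ℤ).Rel 0 1 by simp),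
          prevD_eq _ (show (ComplexShape.up ℤ).Rel (-1) 0 by simp)]
        rw [dif_neg (by simp), dif_pos (by simp), comp_zero, zero_add,
          double_d _ _ (by decide), hφ.2, hψ.2, h₁]
        simp
      · exact (isZero_double_X d h i hi hi').eq_of_src _ _

theorem HasComps.isIso {h : (ComplexShape.up ℤ).Rel (-1) 0} {φ : double d h ⟶ double e h} {a b}
    (hφ : HasComps h φ a b) [IsIso a] [IsIso b] : IsIso φ := by
  have : ∀ i, IsIso (φ.f i) := by
    intro i
    by_cases hi : i = -1
    · subst hi; rw [hφ.1]; infer_instance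
    · by_cases hi' : i = 0
      · subst hi'; rw [hφ.2]; infer_instance
      · exact ⟨0, (isZero_double_X d h i hi hi').eq_of_src _ _,
          (isZero_double_X e h i hi hi').eq_of_src _ _⟩
  exact HomologicalComplex.Hom.isIso_of_components φ

theorem isIso_ofHom_of_bijective {R : Type u} [CommRing R] {M N : Type u} [AddCommGroup M]
    [AddCommGroup N] [Module R M] [Module R N] (f : M →ₗ[R] N) (hf : Function.Bijective f) :
    IsIso (ModuleCat.ofHom f) :=
  (LinearEquiv.ofBijective f hf).toModuleIso.isIso_hom

end Double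

section Map

variable {R S R' : Type u} [CommRing R] [CommRing S] [CommRing R'] [Algebra R S] [Algebra R' S]
  [Algebra R R'] [IsScalarTower R R' S]
  {P : Algebra.Extension.{u} R S} {P' : Algebra.Extension.{u} R' S}

theorem map_hasComps (f : P.Hom P') :
    HasComps (by simp) (_root_.NLCx.map f) (ModuleCat.ofHom (Extension.Cotangent.map f))
      (ModuleCat.ofHom (Extension.CotangentSpace.map f)) :=
  ⟨mkHomFromDouble_f₀ _ _ _ _ _ _, mkHomFromDouble_f₁ _ _ _ _ _ _⟩

theorem isIso_map (f : P.Hom P') (h₀ : Function.Bijective (Extension.Cotangent.map f))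
    (h₁ : Function.Bijective (Extension.CotangentSpace.map f)) : IsIso (_root_.NLCx.map f) :=
  haveI := isIso_ofHom_of_bijective _ h₀
  haveI := isIso_ofHom_of_bijective _ h₁
  (map_hasComps f).isIso

/-- `NLCx.map` does not depend on the morphism up to homotopy. -/
noncomputable def mapHomotopy (f g : P.Hom P') :
    Homotopy (_root_.NLCx.map f) (_root_.NLCx.map g) :=
  doubleHomotopy (map_hasComps f) (map_hasComps g) (ModuleCat.ofHom (f.sub g))
    (ModuleCat.hom_ext <| LinearMap.ext fun x =>
      eq_add_of_sub_eq (LinearMap.congr_fun (Extension.Cotangent.map_sub_map f g) x))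
    (ModuleCat.hom_ext <| LinearMap.ext fun x =>
      eq_add_of_sub_eq (LinearMap.congr_fun (Extension.CotangentSpace.map_sub_map f g) x))

end Map

section Same

variable {R S : Type u} [CommRing R] [CommRing S] [Algebra R S]
  {P P' P'' : Algebra.Extension.{u} R S}

theorem map_id : _root_.NLCx.map (Extension.Hom.id P) = 𝟙 _ :=
  (map_hasComps (Extension.Hom.id P)).hom_eq (HasComps.id _)
    (by rw [Extension.Cotangent.map_id]; rfl) (by rw [Extension.CotangentSpace.map_id]; rfl)

theorem map_comp (g : P'.Hom P'') (f : P.Hom P') :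
    _root_.NLCx.map (g.comp f) = _root_.NLCx.map f ≫ _root_.NLCx.map g :=
  (map_hasComps (g.comp f)).hom_eq ((map_hasComps f).comp (map_hasComps g))
    (by rw [Extension.Cotangent.map_comp]; rfl) (by rw [Extension.CotangentSpace.map_comp]; rfl)

/-- Two presentations of the same algebra have homotopy equivalent complexes. -/
noncomputable def mapHomotopyEquiv (f : P.Hom P') (g : P'.Hom P) :
    HomotopyEquiv (_root_.NLCx.cx P) (_root_.NLCx.cx P') where
  hom := _root_.NLCx.map f
  inv := _root_.NLCx.map g
  homotopyHomInvId := (Homotopy.ofEq (map_comp g f).symm).trans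
    ((mapHomotopy _ (Extension.Hom.id P)).trans (Homotopy.ofEq map_id))
  homotopyInvHomId := (Homotopy.ofEq (map_comp f g).symm).trans
    ((mapHomotopy _ (Extension.Hom.id P')).trans (Homotopy.ofEq map_id))

end Same

section BcMap

variable {R S R' S' : Type u} [CommRing R] [CommRing S] [CommRing R'] [CommRing S']
  [Algebra R S] [Algebra R' S'] [Algebra R R'] [Algebra S S'] [Algebra R S']
  [IsScalarTower R R' S'] [IsScalarTower R S S']
  {P : Algebra.Extension.{u} R S} {P' P'' : Algebra.Extension.{u} R' S'}

omit [IsScalarTower R S S'] in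
theorem bcMap_hasComps (f : P.Hom P') :
    HasComps (by simp) (_root_.NLCx.bcMap f)
      (ModuleCat.ofHom (LinearMap.liftBaseChange S' (Extension.Cotangent.map f)))
      (ModuleCat.ofHom (LinearMap.liftBaseChange S' (Extension.CotangentSpace.map f))) :=
  ⟨mkHomFromDouble_f₀ _ _ _ _ _ _, mkHomFromDouble_f₁ _ _ _ _ _ _⟩

omit [IsScalarTower R S S'] in
theorem isIso_bcMap (f : P.Hom P')
    (h₀ : Function.Bijective (LinearMap.liftBaseChange S' (Extension.Cotangent.map f)))
    (h₁ : Function.Bijective (LinearMap.liftBaseChange S' (Extension.CotangentSpace.map f))) :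
    IsIso (_root_.NLCx.bcMap f) :=
  haveI := isIso_ofHom_of_bijective _ h₀
  haveI := isIso_ofHom_of_bijective _ h₁
  (bcMap_hasComps f).isIso

omit [IsScalarTower R S S'] in
theorem bcMap_comp (g : P'.Hom P'') (f : P.Hom P') :
    _root_.NLCx.bcMap (g.comp f) = _root_.NLCx.bcMap f ≫ _root_.NLCx.map g :=
  (bcMap_hasComps (g.comp f)).hom_eq ((bcMap_hasComps f).comp (map_hasComps g))
    (by
      rw [Extension.Cotangent.map_comp, ← ModuleCat.ofHom_comp]
      congr 1
      ext x
      simp)
    (by
      rw [Extension.CotangentSpace.map_comp, ← ModuleCat.ofHom_comp]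
      congr 1
      ext x
      simp)

/-- `NLCx.bcMap` does not depend on the morphism up to homotopy. -/
noncomputable def bcMapHomotopy (f g : P.Hom P') :
    Homotopy (_root_.NLCx.bcMap f) (_root_.NLCx.bcMap g) :=
  doubleHomotopy (bcMap_hasComps f) (bcMap_hasComps g)
    (ModuleCat.ofHom (LinearMap.liftBaseChange S' (f.sub g)))
    (by
      rw [← ModuleCat.ofHom_comp, ← ModuleCat.ofHom_add]
      congr 1
      ext x
      simp [eq_add_of_sub_eq (LinearMap.congr_fun (Extension.Cotangent.map_sub_map f g) x)])
    (by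
      rw [← ModuleCat.ofHom_comp, ← ModuleCat.ofHom_add]
      congr 1
      refine TensorProduct.AlgebraTensorModule.ext fun s x => ?_
      simp [eq_add_of_sub_eq (LinearMap.congr_fun (Extension.CotangentSpace.map_sub_map f g) x)])

omit [IsScalarTower R S S'] in
theorem bcH1Map_comp (g : P'.Hom P'') (f : P.Hom P') :
    _root_.NLCx.bcH1Map (g.comp f) =
      Extension.H1Cotangent.map g ∘ₗ _root_.NLCx.bcH1Map f := by
  ext x
  show (LinearMap.liftBaseChange S' (Extension.Cotangent.map (g.comp f)) x.1).val = _
  rw [Extension.Cotangent.map_comp]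
  show _ = (Extension.Cotangent.map g
    (LinearMap.liftBaseChange S' (Extension.Cotangent.map f) x.1)).val
  congr 1
  generalize x.1 = y
  induction y using TensorProduct.induction_on with
  | zero => simp
  | tmul a b => simp
  | add a b ha hb => simp only [map_add, ha, hb]

theorem bcH1Map_eq (f g : P.Hom P') : _root_.NLCx.bcH1Map f = _root_.NLCx.bcH1Map g := by
  ext x
  show (LinearMap.liftBaseChange S' (Extension.Cotangent.map f) x.1).val =
    (LinearMap.liftBaseChange S' (Extension.Cotangent.map g) x.1).val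
  congr 1
  have key : LinearMap.liftBaseChange S' (Extension.Cotangent.map f) =
      LinearMap.liftBaseChange S' (Extension.Cotangent.map g) +
        LinearMap.liftBaseChange S' (f.sub g) ∘ₗ P.cotangentComplex.baseChange S' := by
    ext y
    simp [eq_add_of_sub_eq (LinearMap.congr_fun (Extension.Cotangent.map_sub_map f g) y), add_comm]
  rw [key, LinearMap.add_apply, LinearMap.comp_apply]
  have hx : P.cotangentComplex.baseChange S' x.1 = 0 := x.2
  rw [hx, map_zero, add_zero]

omit [IsScalarTower R S S'] in
theorem bcH1Map_surjective (f : P.Hom P')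
    (h₀ : Function.Surjective (LinearMap.liftBaseChange S' (Extension.Cotangent.map f)))
    (h₁ : Function.Injective (LinearMap.liftBaseChange S' (Extension.CotangentSpace.map f))) :
    Function.Surjective (_root_.NLCx.bcH1Map f) := by
  rintro ⟨y, hy⟩
  obtain ⟨x, hx⟩ := h₀ y
  refine ⟨⟨x, ?_⟩, Subtype.ext hx⟩
  show P.cotangentComplex.baseChange S' x = 0
  apply h₁
  rw [map_zero]
  have key : LinearMap.liftBaseChange S' (Extension.CotangentSpace.map f) ∘ₗ
      P.cotangentComplex.baseChange S' =
      P'.cotangentComplex ∘ₗ LinearMap.liftBaseChange S' (Extension.Cotangent.map f) := by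
    ext z
    simpa using Extension.CotangentSpace.map_cotangentComplex f z
  have := LinearMap.congr_fun key x
  simp only [LinearMap.comp_apply, hx] at this
  rw [this]
  exact hy

end BcMap

end Groth.Agent.H8Props.NLCx
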