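import Mathlib.RingTheory.Kaehler.JacobiZariski
import Mathlib.RingTheory.Ideal.Cotangent
import Mathlib.RingTheory.Flat.Basic

/-!
# Algebras lifting flatly along square zero thickenings and their naive cotangent complexes

If an `S`-algebra `T` lifts to a flat algebra over every square zero thickening of `S`, then for
presentations of `S` over `R` and of `T` over `S` the map `T ⊗ I/I² → J/J²` to the composite
presentation is injective.
-/

set_option autoImplicit false

universe u

open TensorProduct Algebra

namespace Groth.Agent.H8Props.NLCx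

/-- `T` lifts to a flat algebra along every square zero thickening of `S`. -/
def HasFlatLifts (S T : Type u) [CommRing S] [CommRing T] [Algebra S T] : Prop :=
  ∀ (E : Type u) [CommRing E] (π : E →+* S), Function.Surjective π → RingHom.ker π ^ 2 = ⊥ →
    ∃ (E' : Type u) (_ : CommRing E') (_ : Algebra E E') (π' : E' →+* T),
      Function.Surjective π' ∧ RingHom.ker π' ^ 2 = ⊥ ∧ Module.Flat E E' ∧
        π'.comp (algebraMap E E') = (algebraMap S T).comp π

variable {R S T : Type u} [CommRing R] [CommRing S] [CommRing T] [Algebra R S] [Algebra R T]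
  [Algebra S T] [IsScalarTower R S T]

theorem injective_liftBaseChange_toComp (h : HasFlatLifts S T) {ι κ : Type u}
    (Q : Generators S T κ) (P : Generators R S ι) :
    Function.Injective
      ((Extension.Cotangent.map (Q.toComp P).toExtensionHom).liftBaseChange T) := by
  classical
  let I : Ideal P.toExtension.Ring := P.toExtension.ker
  let π : P.toExtension.Ring ⧸ I ^ 2 →+* S := Ideal.Quotient.lift (I ^ 2)
    (algebraMap P.toExtension.Ring S)
    fun a ha => RingHom.mem_ker.mp (Ideal.pow_le_self two_ne_zero ha)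
  have hπ : Function.Surjective π :=
    Ideal.Quotient.lift_surjective_of_surjective _ _ P.toExtension.algebraMap_surjective
  have hker : RingHom.ker π ^ 2 = ⊥ := by
    rw [eq_bot_iff, ← I.cotangentIdeal_square]
    apply Ideal.pow_right_mono
    intro x hx
    obtain ⟨x, rfl⟩ := Ideal.Quotient.mk_surjective x
    exact ⟨x, hx, rfl⟩
  obtain ⟨E', _, _, π', hπ', hker', hflat, hcomp⟩ := h _ π hπ hker
  let ι' : P.toExtension.Ring ⧸ I ^ 2 →+* E' := algebraMap _ E'
  let θ : MvPolynomial ι R →+* E' := ι'.comp (Ideal.Quotient.mk (I ^ 2))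
  have hθ (p : MvPolynomial ι R) : π' (θ p) = algebraMap S T (MvPolynomial.aeval P.val p) :=
    (RingHom.congr_fun hcomp _).trans (congrArg (algebraMap S T) (Generators.algebraMap_apply P p))
  choose lift hlift using hπ'
  let v : κ ⊕ ι → E' := Sum.elim (fun k => lift (Q.val k)) (fun i => θ (MvPolynomial.X i))
  let ψ : MvPolynomial (κ ⊕ ι) R →+* E' := MvPolynomial.eval₂Hom (θ.comp MvPolynomial.C) v
  have hψC (r : R) : ψ (MvPolynomial.C r) = θ (MvPolynomial.C r) := MvPolynomial.eval₂Hom_C _ _ r
  have hψX (i : κ ⊕ ι) : ψ (MvPolynomial.X i) = v i := MvPolynomial.eval₂Hom_X' _ _ i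
  have hψ' : π'.comp ψ =
      (MvPolynomial.aeval (Q.comp P).val : MvPolynomial (κ ⊕ ι) R →ₐ[R] T).toRingHom := by
    refine MvPolynomial.ringHom_ext (fun r => ?_) fun i => ?_
    · show π' (ψ (MvPolynomial.C r)) = MvPolynomial.aeval (Q.comp P).val (MvPolynomial.C r)
      rw [hψC, hθ, MvPolynomial.aeval_C, MvPolynomial.aeval_C, ← IsScalarTower.algebraMap_apply]
    · show π' (ψ (MvPolynomial.X i)) = MvPolynomial.aeval (Q.comp P).val (MvPolynomial.X i)
      rw [hψX, MvPolynomial.aeval_X]
      rcases i with k | i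
      · exact hlift _
      · show π' (θ (MvPolynomial.X i)) = algebraMap S T (P.val i)
        rw [hθ, MvPolynomial.aeval_X]
  have hψ (x : (Q.comp P).toExtension.Ring) :
      π' (ψ x) = algebraMap (Q.comp P).toExtension.Ring T x :=
    (RingHom.congr_fun hψ' x).trans (Generators.algebraMap_apply (Q.comp P) x).symm
  have hψto (p : MvPolynomial ι R) : ψ ((Q.toComp P).toAlgHom p) = θ p := by
    rw [Generators.toComp_toAlgHom]
    show ψ (MvPolynomial.rename Sum.inr p) = θ p
    induction p using MvPolynomial.induction_on with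
    | C r => rw [MvPolynomial.rename_C, hψC]
    | add a b ha hb => rw [map_add, map_add, map_add, ha, hb]
    | mul_X a i ha => rw [map_mul, map_mul, map_mul, ha, MvPolynomial.rename_X, hψX]; rfl
  let ψ₀ : (Q.comp P).toExtension.Ring →+* E' := ψ
  let J : Ideal (Q.comp P).toExtension.Ring := (Q.comp P).toExtension.ker
  have hψJ (j : (Q.comp P).toExtension.Ring) (hj : j ∈ J) : ψ₀ j ∈ RingHom.ker π' :=
    (RingHom.mem_ker).mpr ((hψ j).trans hj)
  let := RingHom.toAlgebra (R := (Q.comp P).toExtension.Ring) ψ₀
  let ρ : J.Cotangent →ₗ[(Q.comp P).toExtension.Ring] E' :=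
    Submodule.liftQ _ ((Algebra.linearMap (Q.comp P).toExtension.Ring E').comp J.subtype) (by
      refine Submodule.smul_le.mpr fun a ha x _ => ?_
      have hmul : ψ₀ a * ψ₀ x.1 = 0 := by
        have := Ideal.mul_mem_mul (hψJ a ha) (hψJ x.1 x.2)
        rwa [← pow_two, hker'] at this
      show ψ₀ (a * x.1) = 0
      rw [map_mul, hmul])
  have hρ (j : J) : ρ (J.toCotangent j) = ψ₀ j := rfl
  let M := I.cotangentIdeal
  let c : M → P.toExtension.Cotangent := fun m => .of (I.cotangentEquivIdeal.symm m)
  have hcadd (m m' : M) : c (m + m') = c m + c m' := by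
    apply Extension.Cotangent.ext
    simp [c]
  have hcsmul (r : P.toExtension.Ring ⧸ I ^ 2) (m : M) : c (r • m) = π r • c m := by
    obtain ⟨p, rfl⟩ := Ideal.Quotient.mk_surjective r
    have : (Ideal.Quotient.mk (I ^ 2) p) • m = p • m := Subtype.ext (by
      show Ideal.Quotient.mk (I ^ 2) p * m.1 = _
      rw [← Ideal.Quotient.algebraMap_eq, ← Algebra.smul_def]
      rfl)
    rw [this]
    show _ = algebraMap P.toExtension.Ring S p • c m
    rw [algebraMap_smul]
    apply Extension.Cotangent.ext
    simp [c]
  let f : E' →+ M →+ T ⊗[S] P.toExtension.Cotangent :=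
    AddMonoidHom.mk' (fun e => AddMonoidHom.mk' (fun m => π' e ⊗ₜ[S] c m)
      fun m m' => by rw [hcadd, tmul_add])
      fun e e' => by ext m; simp [add_tmul]
  let σ : E' ⊗[P.toExtension.Ring ⧸ I ^ 2] M →+ T ⊗[S] P.toExtension.Cotangent :=
    TensorProduct.liftAddHom f fun r e m => by
      show π' (r • e) ⊗ₜ[S] c m = π' e ⊗ₜ[S] c (r • m)
      rw [hcsmul, ← smul_tmul, Algebra.smul_def r e, map_mul, Algebra.smul_def (π r) (π' e)]
      congr 2
      exact RingHom.congr_fun hcomp r
  have hσ : Function.Surjective σ := by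
    intro x
    induction x using TensorProduct.induction_on with
    | zero => exact ⟨0, map_zero σ⟩
    | tmul t z =>
      refine ⟨lift t ⊗ₜ I.cotangentEquivIdeal z.val, ?_⟩
      show π' (lift t) ⊗ₜ[S] c _ = _
      rw [hlift]
      congr 1
      apply Extension.Cotangent.ext
      simp [c]
    | add a b ha hb =>
      obtain ⟨a', rfl⟩ := ha
      obtain ⟨b', rfl⟩ := hb
      exact ⟨a' + b', map_add σ _ _⟩
  let μ : E' ⊗[P.toExtension.Ring ⧸ I ^ 2] M →ₗ[P.toExtension.Ring ⧸ I ^ 2] E' :=
    (TensorProduct.rid _ E').toLinearMap ∘ₗ M.subtype.lTensor E'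
  have hμ : Function.Injective μ := (TensorProduct.rid _ E').injective.comp
    (Module.Flat.lTensor_preserves_injective_linearMap _ M.injective_subtype)
  let L := (Extension.Cotangent.map (Q.toComp P).toExtensionHom).liftBaseChange T
  have key (y : E' ⊗[P.toExtension.Ring ⧸ I ^ 2] M) : ρ (L (σ y)).val = μ y := by
    induction y using TensorProduct.induction_on with
    | zero => simp
    | add a b ha hb => simp only [map_add, Extension.Cotangent.val_add, ha, hb]
    | tmul e m =>
      obtain ⟨m, i, hi, rfl⟩ := m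
      have hc : c ⟨_, i, hi, rfl⟩ = Extension.Cotangent.mk ⟨i, hi⟩ := by
        apply Extension.Cotangent.ext
        exact I.cotangentEquivIdeal_symm_apply i hi
      show ρ (L (π' e ⊗ₜ[S] c _)).val = _
      rw [hc]
      simp only [L, LinearMap.liftBaseChange_tmul, Extension.Cotangent.map_mk]
      obtain ⟨r, hr⟩ := (Q.comp P).toExtension.algebraMap_surjective (π' e)
      rw [← hr, algebraMap_smul, Extension.Cotangent.val_smul', Extension.Cotangent.val_mk,
        ← LinearMap.map_smul]
      show ρ (J.toCotangent _) = _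
      rw [hρ]
      show ψ₀ (r * _) = Ideal.Quotient.mk (I ^ 2) i • e
      rw [map_mul, Algebra.smul_def, show ψ₀ ((Q.toComp P).toExtensionHom.toAlgHom i) = θ i from
        hψto i]
      have h1 : ψ₀ r - e ∈ RingHom.ker π' := by
        rw [RingHom.mem_ker, map_sub, show π' (ψ₀ r) = _ from hψ r, hr, sub_self]
      have h2 : θ i ∈ RingHom.ker π' := by
        rw [RingHom.mem_ker, hθ, show MvPolynomial.aeval P.val i = 0 from
          (Generators.algebraMap_apply P i).symm.trans hi, map_zero]
      have h3 := Ideal.mul_mem_mul h1 h2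
      rw [← pow_two, hker', Ideal.mem_bot, sub_mul, sub_eq_zero] at h3
      rw [h3, mul_comm]
      rfl
  rw [injective_iff_map_eq_zero]
  intro x hx
  obtain ⟨y, rfl⟩ := hσ x
  have hy : μ y = 0 := by
    rw [← key, hx, Extension.Cotangent.val_zero, map_zero]
  rw [show y = 0 from hμ (hy.trans (map_zero μ).symm), map_zero]

end Groth.Agent.H8Props.NLCx
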