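import Groth.Agent.H8Props.NLCx.Complex
import Groth.Agent.H8Props.NLCx.EtaleLift
import Groth.Agent.H8Props.NLH1.Ring
import Mathlib.Algebra.Homology.ShortComplex.ModuleCat
import Mathlib.Algebra.Homology.QuasiIso

/-!
# Naive cotangent complexes along formally étale maps

For a commutative square `A → B`, `A' → T` with `A → A'` formally étale and `B → T` formally étale and
flatly liftable along square zero thickenings, `NL_{B/A} ⊗ T → NL_{T/A'}` is a quasi-isomorphism.
-/

set_option autoImplicit false

universe u

open CategoryTheory CategoryTheory.Limits TensorProduct HomologicalComplex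

attribute [local instance] HasDerivedCategory.standard

namespace Groth.Agent.H8Props.NLCx

open Algebra

section Criterion

variable {R : Type u} [CommRing R]

/-- Quasi-isomorphisms of short complexes of modules on elements. -/
theorem shortComplex_quasiIso {S₁ S₂ : ShortComplex (ModuleCat.{u} R)} (φ : S₁ ⟶ S₂)
    (hinj : ∀ x, S₁.g x = 0 → ∀ z, S₂.f z = φ.τ₂ x → ∃ w, S₁.f w = x)
    (hsurj : ∀ y, S₂.g y = 0 → ∃ x z, S₁.g x = 0 ∧ φ.τ₂ x + S₂.f z = y) :
    ShortComplex.QuasiIso φ := by
  let h₁ := S₁.moduleCatLeftHomologyData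
  let h₂ := S₂.moduleCatLeftHomologyData
  rw [ShortComplex.quasiIso_iff_isIso_leftHomologyMap' φ h₁ h₂, ConcreteCategory.isIso_iff_bijective]
  have hπ (x : h₁.K) : ShortComplex.leftHomologyMap' φ h₁ h₂ (h₁.π x) =
      h₂.π (ShortComplex.cyclesMap' φ h₁ h₂ x) :=
    ConcreteCategory.congr_hom (ShortComplex.leftHomologyπ_naturality' φ h₁ h₂) x
  have hi (x : h₁.K) : h₂.i (ShortComplex.cyclesMap' φ h₁ h₂ x) = φ.τ₂ (h₁.i x) :=
    ConcreteCategory.congr_hom (ShortComplex.cyclesMap'_i φ h₁ h₂) x
  constructor
  · rw [injective_iff_map_eq_zero]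
    intro q hq
    obtain ⟨x, rfl⟩ := Submodule.mkQ_surjective _ q
    have hq' : h₂.π (ShortComplex.cyclesMap' φ h₁ h₂ x) = 0 := (hπ x).symm.trans hq
    obtain ⟨z, hz⟩ := (Submodule.Quotient.mk_eq_zero _).mp hq'
    obtain ⟨w, hw⟩ := hinj (h₁.i x) x.2 z ((congrArg Subtype.val hz).trans (hi x))
    exact (Submodule.Quotient.mk_eq_zero _).mpr ⟨w, Subtype.ext hw⟩
  · intro q
    obtain ⟨y, rfl⟩ := Submodule.mkQ_surjective _ q
    obtain ⟨x, z, hx, hxz⟩ := hsurj y.1 y.2
    refine ⟨h₁.π ⟨x, hx⟩, (hπ _).trans ((Submodule.Quotient.eq _).mpr ⟨-z, Subtype.ext ?_⟩)⟩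
    show S₂.f (-z) = h₂.i (ShortComplex.cyclesMap' φ h₁ h₂ ⟨x, hx⟩) - y.1
    rw [hi, map_neg, ← hxz]
    show _ = φ.τ₂ x - (φ.τ₂ x + S₂.f z)
    abel

variable {X₀ X₁ Y₀ Y₁ : ModuleCat.{u} R} {d : X₀ ⟶ X₁} {e : Y₀ ⟶ Y₁}

theorem HasComps.quasiIso {h : (ComplexShape.up ℤ).Rel (-1) 0} {φ : double d h ⟶ double e h}
    {a : X₀ ⟶ Y₀} {b : X₁ ⟶ Y₁} (hφ : HasComps h φ a b)
    (h₀inj : ∀ x, d x = 0 → a x = 0 → x = 0)
    (h₀surj : ∀ y, e y = 0 → ∃ x, d x = 0 ∧ a x = y)
    (h₁inj : ∀ x y, e y = b x → ∃ w, d w = x)
    (h₁surj : ∀ y, ∃ x z, b x + e z = y) : QuasiIso φ := by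
  constructor
  intro i
  by_cases hi : i = -1
  · subst hi
    rw [quasiIsoAt_iff' φ (-2) (-1) 0 (by simp) (by simp)]
    have h2 : Subsingleton ((double d h).X (-2)) := ModuleCat.subsingleton_of_isZero
      (isZero_double_X d h _ (by decide) (by decide))
    have h2' : Subsingleton ((double e h).X (-2)) := ModuleCat.subsingleton_of_isZero
      (isZero_double_X e h _ (by decide) (by decide))
    refine shortComplex_quasiIso _ (fun x hx z hz => ?_) (fun y hy => ?_)
    · rw [show z = 0 from h2'.elim z 0] at hz
      replace hz := hz.symm.trans (map_zero _)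
      change φ.f (-1) x = 0 at hz
      change (double d h).d (-1) 0 x = 0 at hx
      rw [hφ.1] at hz
      rw [double_d _ _ (by decide)] at hx
      refine ⟨0, ?_⟩
      simp only [ConcreteCategory.comp_apply] at hx hz
      have := h₀inj ((doubleXIso₀ d h).hom x)
        ((ModuleCat.mono_iff_injective _).mp inferInstance (hx.trans (map_zero _).symm))
        ((ModuleCat.mono_iff_injective _).mp inferInstance (hz.trans (map_zero _).symm))
      rw [map_zero]
      exact ((ModuleCat.mono_iff_injective (doubleXIso₀ d h).hom).mp inferInstance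
        (this.trans (map_zero _).symm)).symm
    · change (double e h).d (-1) 0 y = 0 at hy
      rw [double_d _ _ (by decide)] at hy
      simp only [ConcreteCategory.comp_apply] at hy
      obtain ⟨x, hx, hax⟩ := h₀surj ((doubleXIso₀ e h).hom y)
        ((ModuleCat.mono_iff_injective _).mp inferInstance (hy.trans (map_zero _).symm))
      refine ⟨(doubleXIso₀ d h).inv x, 0, ?_, ?_⟩
      · change (double d h).d (-1) 0 _ = 0
        rw [double_d _ _ (by decide)]
        simp [hx]
      · change φ.f (-1) _ + _ = y
        rw [map_zero]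
        refine (add_zero _).trans ?_
        rw [hφ.1]
        simp [hax]
  · by_cases hi' : i = 0
    · subst hi'
      rw [quasiIsoAt_iff' φ (-1) 0 1 (by simp) (by simp)]
      have h1 : Subsingleton ((double d h).X 1) := ModuleCat.subsingleton_of_isZero
        (isZero_double_X d h _ (by decide) (by decide))
      refine shortComplex_quasiIso _ (fun x _ z hz => ?_) (fun y _ => ?_)
      · change (double e h).d (-1) 0 z = φ.f 0 x at hz
        rw [double_d _ _ (by decide), hφ.2] at hz
        simp only [ConcreteCategory.comp_apply] at hz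
        obtain ⟨w, hw⟩ := h₁inj ((doubleXIso₁ d h (by decide)).hom x) ((doubleXIso₀ e h).hom z)
          ((ModuleCat.mono_iff_injective _).mp inferInstance hz)
        refine ⟨(doubleXIso₀ d h).inv w, ?_⟩
        change (double d h).d (-1) 0 _ = x
        rw [double_d _ _ (by decide)]
        simp [hw]
      · obtain ⟨x, z, hxz⟩ := h₁surj ((doubleXIso₁ e h (by decide)).hom y)
        refine ⟨(doubleXIso₁ d h (by decide)).inv x, (doubleXIso₀ e h).inv z,
          h1.elim _ _, ?_⟩
        change φ.f 0 _ + (double e h).d (-1) 0 _ = y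
        rw [double_d _ _ (by decide), hφ.2]
        simp only [ConcreteCategory.comp_apply, Iso.inv_hom_id_apply]
        rw [← map_add, hxz, Iso.hom_inv_id_apply]
    · rw [quasiIsoAt_iff_exactAt' φ i (ExactAt.of_isZero (isZero_double_X e h i hi hi'))]
      exact ExactAt.of_isZero (isZero_double_X d h i hi hi')

end Criterion

section Square

variable {A B A' T : Type u} [CommRing A] [CommRing B] [CommRing A'] [CommRing T] [Algebra A B]
  [Algebra A A'] [Algebra A' T] [Algebra B T] [Algebra A T] [IsScalarTower A A' T]
  [IsScalarTower A B T]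

omit [IsScalarTower A B T] in
theorem bcH1Map_trans_apply {P : Extension.{u} A B} {P₁ : Extension.{u} A T}
    {P₂ : Extension.{u} A' T} (g : P₁.Hom P₂) (f : P.Hom P₁) (x : _root_.NLCx.bcH1 P T) :
    _root_.NLCx.bcH1Map (g.comp f) x =
      Extension.H1Cotangent.map g (_root_.NLCx.bcH1Map f x) := by
  apply Subtype.ext
  show LinearMap.liftBaseChange T (Extension.Cotangent.map (g.comp f)) x.1 =
    Extension.Cotangent.map g (LinearMap.liftBaseChange T (Extension.Cotangent.map f) x.1)
  rw [Extension.Cotangent.map_comp]
  generalize x.1 = y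
  induction y using TensorProduct.induction_on with
  | zero => simp
  | tmul a b => simp
  | add a b ha hb => simp only [map_add, ha, hb]

/-- `H^{-1}` along a flatly liftable formally étale map of the target. -/
theorem bcH1Map_bijective_target [FormallyEtale B T] (h : HasFlatLifts B T) :
    Function.Bijective (_root_.NLCx.bcH1Map (S' := T)
      ((Generators.self A B).defaultHom (Generators.self A T)).toExtensionHom) := by
  let Q := Generators.self B T
  let P := Generators.self A B
  let C := Q.comp P
  let e := (Generators.self A T).defaultHom C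
  let e' := C.defaultHom (Generators.self A T)
  rw [bcH1Map_eq _ (e'.toExtensionHom.comp (Q.toComp P).toExtensionHom), bcH1Map_comp,
    LinearMap.coe_comp]
  refine (Extension.H1Cotangent.equiv e'.toExtensionHom e.toExtensionHom).bijective.comp ⟨?_, ?_⟩
  · intro x y hxy
    exact Subtype.ext (injective_liftBaseChange_toComp h Q P (congrArg Subtype.val hxy))
  · rintro ⟨z, hz⟩
    have h1 : Extension.Cotangent.map (Q.ofComp P).toExtensionHom z = 0 :=
      congrArg Subtype.val (Subsingleton.elim (α := H1Cotangent B T)
        (Extension.H1Cotangent.map (Q.ofComp P).toExtensionHom ⟨z, hz⟩) 0)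
    obtain ⟨x, rfl⟩ := (Generators.Cotangent.exact Q P z).1 h1
    refine ⟨⟨x, ?_⟩, rfl⟩
    show P.toExtension.cotangentComplex.baseChange T x = 0
    apply Generators.CotangentSpace.map_toComp_injective Q P
    rw [map_zero]
    exact (LinearMap.congr_fun (Generators.H1Cotangent.map_comp_cotangentComplex_baseChange Q P)
      x).trans hz

theorem bcH1Map_bijective [FormallyEtale A A'] [FormallyEtale B T] (h : HasFlatLifts B T) :
    Function.Bijective (_root_.NLCx.bcH1Map (S' := T)
      ((Generators.self A B).defaultHom (Generators.self A' T)).toExtensionHom) := by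
  let f := ((Generators.self A B).defaultHom (Generators.self A T)).toExtensionHom
  let g := ((Generators.self A T).defaultHom (Generators.self A' T)).toExtensionHom
  have h1 : ⇑(_root_.NLCx.bcH1Map (S' := T)
      ((Generators.self A B).defaultHom (Generators.self A' T)).toExtensionHom) =
      H1Cotangent.map A A' T T ∘ _root_.NLCx.bcH1Map f := by
    funext x
    rw [bcH1Map_eq _ (g.comp f), bcH1Map_trans_apply]
    rfl
  rw [h1]
  exact (NLH1.map_base_bijective A A' T).comp (bcH1Map_bijective_target h)

theorem bcH0Map_bijective [FormallyEtale A A'] [FormallyEtale B T] :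
    Function.Bijective (_root_.NLCx.bcH0Map A B A' T) := by
  have h1 : ⇑(_root_.NLCx.bcH0Map A B A' T) = KaehlerDifferential.map A A' T T ∘
      KaehlerDifferential.tensorKaehlerEquivOfFormallyEtale A B T := by
    funext x
    rw [Function.comp_apply, KaehlerDifferential.tensorKaehlerEquivOfFormallyEtale_apply]
    induction x using TensorProduct.induction_on with
    | zero => simp
    | add a b ha hb => simp only [map_add, ha, hb]
    | tmul t w =>
      simp only [_root_.NLCx.bcH0Map, LinearMap.liftBaseChange_tmul,
        KaehlerDifferential.mapBaseChange_tmul, map_smul]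
      congr 1
      refine LinearMap.congr_fun (f := KaehlerDifferential.map A A' B T)
        (g := (KaehlerDifferential.map A A' T T).restrictScalars B ∘ₗ
          KaehlerDifferential.map A A B T) ?_ w
      refine LinearMap.ext_on_range (KaehlerDifferential.span_range_derivation A B) fun s => ?_
      simp
  rw [h1]
  refine Function.Bijective.comp ⟨?_, KaehlerDifferential.map_surjective_of_surjective A A' T T
    Function.surjective_id⟩ (LinearEquiv.bijective _)
  rw [injective_iff_map_eq_zero]
  intro x hx
  obtain ⟨y, rfl⟩ := (KaehlerDifferential.exact_mapBaseChange_map A A' T x).mp hx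
  rw [Subsingleton.elim y 0, map_zero]

/-- `NL_{B/A} ⊗ T → NL_{T/A'}` is a quasi-isomorphism. -/
theorem quasiIso_bcMapSelf [FormallyEtale A A'] [FormallyEtale B T] (h : HasFlatLifts B T) :
    QuasiIso (_root_.NLCx.bcMapSelf A B A' T) := by
  let P := (Generators.self A B).toExtension
  let P' := (Generators.self A' T).toExtension
  let f := ((Generators.self A B).defaultHom (Generators.self A' T)).toExtensionHom
  have h1 := bcH1Map_bijective (A := A) (A' := A') h
  have h0 := bcH0Map_bijective (A := A) (B := B) (A' := A') (T := T)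
  let b := LinearMap.liftBaseChange T (Extension.CotangentSpace.map f)
  have hK (x : T ⊗[B] P.CotangentSpace) :
      P'.toKaehler (b x) = _root_.NLCx.bcH0Map A B A' T (P.toKaehler.lTensor T x) := by
    induction x using TensorProduct.induction_on with
    | zero => simp
    | add x y hx hy => simp only [map_add, hx, hy]
    | tmul t v =>
      simp only [b, LinearMap.liftBaseChange_tmul, map_smul, _root_.NLCx.bcH0Map,
        LinearMap.lTensor_tmul]
      congr 1
      induction v using TensorProduct.induction_on with
      | zero => simp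
      | add x y hx hy => simp only [map_add, hx, hy]
      | tmul s w =>
        have hw : w ∈ Submodule.span P.Ring (Set.range (KaehlerDifferential.D A P.Ring)) := by
          rw [KaehlerDifferential.span_range_derivation]; trivial
        induction hw using Submodule.span_induction generalizing s with
        | zero => simp
        | add x y _ _ hx hy => simp only [tmul_add, map_add, hx, hy]
        | smul r x _ hx => rw [← smul_tmul]; exact hx _
        | mem x hx =>
          obtain ⟨y, rfl⟩ := hx
          rw [Extension.CotangentSpace.map_tmul]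
          show P'.toKaehler (algebraMap B T s ⊗ₜ[P'.Ring] KaehlerDifferential.D A' P'.Ring
            (f.toRingHom y)) = _
          rw [KaehlerDifferential.mapBaseChange_tmul, KaehlerDifferential.mapBaseChange_tmul,
            KaehlerDifferential.map_D, KaehlerDifferential.map_D, map_smul,
            KaehlerDifferential.map_D, algebraMap_smul]
          congr 2
          exact f.algebraMap_toRingHom y
  have hex : Function.Exact (P.cotangentComplex.baseChange T) (P.toKaehler.lTensor T) := by
    rw [LinearMap.baseChange_eq_ltensor]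
    exact lTensor_exact T P.exact_cotangentComplex_toKaehler P.toKaehler_surjective
  refine (bcMap_hasComps f).quasiIso ?_ ?_ ?_ ?_
  · intro x hx hax
    exact congrArg Subtype.val (h1.1 (a₁ := ⟨x, hx⟩) (a₂ := 0)
      ((Subtype.ext hax).trans (map_zero _).symm))
  · intro y hy
    obtain ⟨x, hx⟩ := h1.2 ⟨y, hy⟩
    exact ⟨x.1, x.2, congrArg Subtype.val hx⟩
  · intro x y hxy
    refine (hex x).1 (h0.1 ?_)
    rw [map_zero, ← hK, show b x = P'.cotangentComplex y from hxy.symm]
    exact P'.exact_cotangentComplex_toKaehler.apply_apply_eq_zero y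
  · intro y
    obtain ⟨v, hv⟩ := h0.2 (P'.toKaehler y)
    obtain ⟨x, rfl⟩ := LinearMap.lTensor_surjective T P.toKaehler_surjective v
    obtain ⟨z, hz⟩ := (P'.exact_cotangentComplex_toKaehler (y - b x)).1
      (by rw [map_sub, hK, hv, sub_self])
    exact ⟨x, z, eq_sub_iff_add_eq'.mp hz⟩

end Square

end Groth.Agent.H8Props.NLCx
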