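import Groth.Agent.H8Props.NLCx.Basic
import Groth.Agent.H8Props.NLCx.Complex

/-!
# The base change of the presentation on all elements
-/

universe u

open CategoryTheory TensorProduct Algebra

attribute [local instance] HasDerivedCategory.standard

namespace Groth.Agent.H8Props.NLCx

variable (R S R' S' : Type u) [CommRing R] [CommRing S] [CommRing R']
  [CommRing S'] [Algebra R S] [Algebra R' S'] [Algebra R R'] [Algebra S S'] [Algebra R S']
  [IsScalarTower R R' S'] [IsScalarTower R S S'] [Algebra.IsPushout R R' S S']

include R in
theorem aeval_algebraMap_surjective :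
    Function.Surjective (MvPolynomial.aeval (R := R') fun s : S => algebraMap S S' s) := by
  intro x
  refine (‹Algebra.IsPushout R R' S S'›).1.inductionOn x _ ⟨0, map_zero _⟩ ?_ ?_ ?_
  · exact fun s => ⟨MvPolynomial.X s, MvPolynomial.aeval_X _ _⟩
  · rintro c _ ⟨p, rfl⟩
    exact ⟨c • p, map_smul _ c p⟩
  · rintro _ _ ⟨p, rfl⟩ ⟨q, rfl⟩
    exact ⟨p + q, map_add _ p q⟩

/-- The presentation of `S'` over `R'` by the elements of `S`. -/
noncomputable def selfBC : Algebra.Generators R' S' S :=
  Algebra.Generators.ofSurjective (fun s => algebraMap S S' s)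
    (aeval_algebraMap_surjective R S R' S')

theorem selfBC_val (s : S) :
    (selfBC R S R' S').val s = algebraMap S S' ((Algebra.Generators.self R S).val s) := rfl

end Groth.Agent.H8Props.NLCx
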